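import Cfsg.Agent.Lib.ONanRec.Cand.CoverData

/-!
# The checks on the covers of `L₃(4)` and their automorphisms
-/

set_option autoImplicit false
set_option maxRecDepth 100000

namespace CfsgLib.ONanRec.Cand

open CfsgLib.Schur.L34Data CfsgLib.Generation

/-- The two commutators and their inverses, in the generators. -/
def cWord (i : ℕ) : List ℕ := [[0, 1, 2, 3], [0, 1, 1, 2, 3, 3], [1, 0, 3, 2], [1, 1, 0, 3, 3, 2]].getD i []

/-- Substitution of the commutators. -/
def subC (w : List ℕ) : List ℕ := w.flatMap cWord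

/-- Evaluate a number before continuing. -/
def fz {α : Type} (x : ℕ) (k : ℕ → α) : α :=
  match x with
  | 0 => k 0
  | n + 1 => k (n + 1)

theorem fz_eq {α : Type} (x : ℕ) (k : ℕ → α) : fz x k = k x := by cases x <;> rfl

/-- Evaluate a list before continuing. -/
def fzL {α : Type} : List ℕ → (List ℕ → α) → α
  | [], k => k []
  | a :: l, k => fz a fun a' => fzL l fun l' => k (a' :: l')

theorem fzL_eq {α : Type} : ∀ (l : List ℕ) (k : List ℕ → α), fzL l k = k l
  | [], _ => rfl
  | a :: l, k => by rw [fzL, fz_eq, fzL_eq l]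

/-- Evaluate a triple before continuing. -/
def fzT {α : Type} (x : Code) (k : Code → α) : α :=
  fzL x.1 fun a => fzL x.2.1 fun b => fzL x.2.2 fun c => k (a, b, c)

theorem fzT_eq {α : Type} (x : Code) (k : Code → α) : fzT x k = k x := by
  simp only [fzT, fzL_eq]

/-- The triple of a word in the generators, evaluated step by step. -/
def evF : List ℕ → Code
  | [] => oneC
  | i :: w => fzT (evF w) fun y => mulT (letter i) y

theorem evF_eq : ∀ w, evF w = Schur.L34Data.ev w
  | [] => rfl
  | i :: w => by rw [evF, fzT_eq, evF_eq w]; rfl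

/-- The triple of a word in the commutators. -/
def evC (w : List ℕ) : Code := evF (subC w)

/-- The inverse of a word in the commutators. -/
def invW (w : List ℕ) : List ℕ := (w.map fun i => (i + 2) % 4).reverse

/-- Substitution of words in the commutators. -/
def lsub (A B : List ℕ) (r : List ℕ) : List ℕ :=
  r.flatMap fun l => [A, invW A, B, invW B].getD l []

/-- The sum of the central exponents, `z` counting one. -/
def lexp (s t : ℕ) (r : List ℕ) : ℕ := (r.map fun l => [s, 3 * s, t, 3 * t, 1, 3].getD l 0).sum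

/-- The product of four given triples along a word. -/
def evW (a a' b b' : Code) : List ℕ → Code
  | [] => oneC
  | l :: r => fzT (evW a a' b b' r) fun y => mulT ([a, a', b, b'].getD l oneC) y

/-- The triple of a substituted word. -/
def evR (A B : List ℕ) (r : List ℕ) : Code := evW (evC A) (evC (invW A)) (evC B) (evC (invW B)) r

/-- The central triple of three exponents. -/
def tri (m n k : ℕ) : Code :=
  scalC ([3, 1, 6, 2].getD m 0) ([3, 1, 6, 2].getD n 0) ([1, 2, 3].getD k 0)

/-- The first base word. -/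
def wA : List ℕ := imA.getD 0 []

/-- The second base word. -/
def wB : List ℕ := imB.getD 0 []

/-- The scalars of a relator on a pair of images. -/
def sR (c i : ℕ) : ℕ × ℕ × ℕ := (scalR.getD c []).getD i (0, 0, 0)

/-- The relators of `L₃(4)`, repeated here as data. -/
def rel (i : ℕ) : List ℕ :=
  [[0, 0], [2, 2, 2, 2], [0, 2, 0, 2, 0, 2, 0, 2, 0, 2, 0, 2, 0, 2],
    [0, 2, 2, 0, 2, 2, 0, 2, 2, 0, 2, 2, 0, 2, 2],
    [0, 3, 0, 3, 0, 2, 0, 3, 0, 3, 0, 2, 0, 3, 0, 3, 0, 2, 0, 3, 0, 3, 0, 2, 0, 3, 0, 3, 0, 2],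
    [0, 3, 0, 3, 0, 3, 0, 2, 0, 3, 0, 2, 0, 2, 0, 3, 0, 3, 0, 3, 0, 2, 0, 3, 0, 2, 0, 2, 0, 3, 0, 3, 0, 3, 0, 2, 0, 3,
      0, 2, 0, 2]].getD i []

/-- The words are words in four letters. -/
theorem im_lt : ∀ c : Fin 12, (∀ l ∈ imA.getD c.val [], l < 4) ∧ ∀ l ∈ imB.getD c.val [], l < 4 := by
  decide +kernel

/-- The relators have letters below four. -/
theorem rel_lt : ∀ i : Fin 6, ∀ l ∈ rel i.val, l < 4 := by decide +kernel

/-- The words of an image pair and their inverses. -/
def imW (c p : ℕ) : List ℕ :=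
  [imA.getD c [], invW (imA.getD c []), imB.getD c [], invW (imB.getD c [])].getD p []

/-- The triple of an image word. -/
def imT (c p : ℕ) : Code := (imC.getD c []).getD p oneC

/-- The triple of a relator on an image pair. -/
def imR (c : ℕ) (r : List ℕ) : Code := evW (imT c 0) (imT c 1) (imT c 2) (imT c 3) r

/-- The value of a relator on an image pair. -/
def relOk (c i : ℕ) : Bool :=
  decide (imR c (rel i) = tri (sR c i).1 (sR c i).2.1 (sR c i).2.2) &&
    Nat.blt (sR c i).1 4 && Nat.blt (sR c i).2.1 4 && Nat.blt (sR c i).2.2 3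

theorem im_code0 : ∀ p : Fin 4, evC (imW 0 p.val) = imT 0 p.val := by decide +kernel

theorem rel_ok0 : ∀ i : Fin 6, relOk 0 i.val = true := by decide +kernel

theorem im_code1 : ∀ p : Fin 4, evC (imW 1 p.val) = imT 1 p.val := by decide +kernel

theorem rel_ok1 : ∀ i : Fin 6, relOk 1 i.val = true := by decide +kernel

theorem im_code2 : ∀ p : Fin 4, evC (imW 2 p.val) = imT 2 p.val := by decide +kernel

theorem rel_ok2 : ∀ i : Fin 6, relOk 2 i.val = true := by decide +kernel

theorem im_code3 : ∀ p : Fin 4, evC (imW 3 p.val) = imT 3 p.val := by decide +kernel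

theorem rel_ok3 : ∀ i : Fin 6, relOk 3 i.val = true := by decide +kernel

theorem im_code4 : ∀ p : Fin 4, evC (imW 4 p.val) = imT 4 p.val := by decide +kernel

theorem rel_ok4 : ∀ i : Fin 6, relOk 4 i.val = true := by decide +kernel

theorem im_code5 : ∀ p : Fin 4, evC (imW 5 p.val) = imT 5 p.val := by decide +kernel

theorem rel_ok5 : ∀ i : Fin 6, relOk 5 i.val = true := by decide +kernel

theorem im_code6 : ∀ p : Fin 4, evC (imW 6 p.val) = imT 6 p.val := by decide +kernel

theorem rel_ok6 : ∀ i : Fin 6, relOk 6 i.val = true := by decide +kernel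

theorem im_code7 : ∀ p : Fin 4, evC (imW 7 p.val) = imT 7 p.val := by decide +kernel

theorem rel_ok7 : ∀ i : Fin 6, relOk 7 i.val = true := by decide +kernel

theorem im_code8 : ∀ p : Fin 4, evC (imW 8 p.val) = imT 8 p.val := by decide +kernel

theorem rel_ok8 : ∀ i : Fin 6, relOk 8 i.val = true := by decide +kernel

theorem im_code9 : ∀ p : Fin 4, evC (imW 9 p.val) = imT 9 p.val := by decide +kernel

theorem rel_ok9 : ∀ i : Fin 6, relOk 9 i.val = true := by decide +kernel

theorem im_code10 : ∀ p : Fin 4, evC (imW 10 p.val) = imT 10 p.val := by decide +kernel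

theorem rel_ok10 : ∀ i : Fin 6, relOk 10 i.val = true := by decide +kernel

theorem im_code11 : ∀ p : Fin 4, evC (imW 11 p.val) = imT 11 p.val := by decide +kernel

theorem rel_ok11 : ∀ i : Fin 6, relOk 11 i.val = true := by decide +kernel

/-- The triples of the images. -/
theorem im_code : ∀ c : Fin 12, ∀ p : Fin 4, evC (imW c.val p.val) = imT c.val p.val := by
  intro c
  fin_cases c
  exacts [im_code0, im_code1, im_code2, im_code3, im_code4, im_code5, im_code6, im_code7, im_code8, im_code9, im_code10, im_code11]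

/-- The exponent of a relator on the images, shifted by `s, t`. -/
def kv (c : ℕ) (i u v s t : ℕ) : ℕ := (u * (sR c i).1 + v * (sR c i).2.1 + lexp s t (rel i)) % 4

/-- The exponents of a cover. -/
def cov (h : ℕ) (i : ℕ) : ℕ := (covers.getD h []).getD i 0

/-- The normal forms. -/
def base (h : ℕ) : ℕ × ℕ × ℕ × ℕ := baseUV.getD h (0, 0, 0, 0)

/-- Every cover is one of the two, after a diagonal change. -/
theorem norm_cover : ∀ u v : Fin 4, (u.val % 2 = 1 ∨ v.val % 2 = 1) → ∃ h : Fin 2, ∃ d : Fin 3, ∃ s t : Fin 4,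
    ∃ e : Fin 2, ∀ i : Fin 6, kv (4 * d.val) i.val u.val v.val s.val t.val =
      (2 * e.val + 1) * cov h.val i.val % 4 := by
  decide +kernel

/-- The normal form is unique. -/
theorem norm_base : ∀ h : Fin 2, ∀ u v s t : Fin 4, (u.val % 2 = 1 ∨ v.val % 2 = 1) →
    (∀ i : Fin 6, kv 0 i.val u.val v.val s.val t.val = cov h.val i.val) →
      (u.val, v.val, s.val, t.val) = base h.val := by
  decide +kernel

/-- The outer data: class, action on the centre, shifts. -/
def outerTab (h : ℕ) : List (ℕ × ℕ × ℕ × ℕ) :=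
  [[(0, 1, 3, 2), (1, 1, 1, 1), (2, 3, 1, 0), (3, 3, 3, 3)],
    [(0, 1, 3, 0), (1, 3, 1, 1), (2, 1, 1, 0), (3, 3, 1, 1)]].getD h []

/-- The automorphisms compatible with a cover. -/
theorem norm_outer : ∀ h : Fin 2, ∀ c : Fin 12, ∀ sg : Fin 2, ∀ i j : Fin 4,
    (∀ r : Fin 6, kv c.val r.val (base h.val).1 (base h.val).2.1 i.val j.val =
      (2 * sg.val + 1) * cov h.val r.val % 4) →
      (c.val, 2 * sg.val + 1, i.val, j.val) ∈ outerTab h.val := by
  decide +kernel

/-- The image of the matrix of a word under `diag(ω^d,1,1)`, Frobenius and inverse transpose. -/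
def betaC (d : ℕ) (f e : Bool) (A A' : List ℕ) : List ℕ :=
  let T := if e then (List.range 9).map (fun k => A'.getD (3 * (k % 3) + k / 3) 0) else A
  let T1 := if f then T.map (fun x => [0, 1, 3, 2].getD x 0) else T
  (List.range 9).map fun k =>
    (mul4 (mul4 (c4 (if k / 3 = 0 then [1, 2, 3].getD d 0 else 1)) (c4 (T1.getD k 0)))
      (c4 (if k % 3 = 0 then [1, 3, 2].getD d 0 else 1))).val

/-- The scalar multiple of a table. -/
def smulC (r : ℕ) (T : List ℕ) : List ℕ := (List.range 9).map fun k => (mul4 (c4 r) (c4 (T.getD k 0))).val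

/-- The index of a class. -/
def cIdx (d : ℕ) (f e : Bool) : ℕ := 4 * d + (if f then 2 else 0) + (if e then 1 else 0)

/-- The images are the images. -/
theorem beta_im : ∀ d : Fin 3, ∀ f e : Bool, ∀ p : Bool,
    ∃ r : Fin 3, t3 (imT (cIdx d.val f e) (if p then 2 else 0)).2.2 =
      t3 (smulC (r.val + 1) (betaC d.val f e (imT 0 (if p then 2 else 0)).2.2 (imT 0 (if p then 3 else 1)).2.2)) := by
  decide +kernel

/-- The base matrices and the matrices of their inverse words are inverse. -/
theorem base_inv : ∀ p : Bool,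
    t3 (mul3C (imT 0 (if p then 2 else 0)).2.2 (imT 0 (if p then 3 else 1)).2.2) = t3 oneC.2.2 := by
  decide +kernel

/-- The words for the two generators. -/
theorem gen_words : ∀ i : Fin 2, (∀ l ∈ genW.getD i.val [], l < 4) ∧
    ∃ r : Fin 3, t3 (imR 0 (genW.getD i.val [])).2.2 = t3 (smulC (r.val + 1) (letter i.val).2.2) := by
  decide +kernel

end CfsgLib.ONanRec.Cand
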