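import Cfsg.Agent.Lib.Schur.L34Exists
import Cfsg.Agent.Lib.Schur.L34Bound
import Cfsg.Agent.Lib.ONanRec.Cand.CoverCodes

/-!
# Lifts of words to a central extension of `L₃(4)` by a cyclic group of order four

The pullback with the cover of kernel `3 × 4 × 4` has a derived group with kernel of that order, so the lift of a
word in the two commutators with scalar triple is a power of the central generator, linear in the exponents.
-/

set_option autoImplicit false
set_option maxHeartbeats 4000000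
set_option linter.unusedSectionVars false

namespace CfsgLib.ONanRec.Cand

attribute [local irreducible] CfsgLib.Schur.L34Data.ev evF evW

open CfsgLib.Schur.L34Data CfsgLib.Generation Matrix
open scoped commutatorElement

variable {F : Type} [Field F] [Fintype F] [CharP F 2] {ω : F}

/-- The projection of the three coordinates to `PSL₃`. -/
def toPSL (hω : ω * ω = 1 + ω) : ↥(Γ0 hω) →* ProjectiveSpecialLinearGroup (Fin 3) F :=
  ((QuotientGroup.mk' (Subgroup.center (SpecialLinearGroup (Fin 3) F))).comp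
    ((MonoidHom.snd _ _).comp (MonoidHom.snd _ _))).comp (Γ0 hω).subtype

theorem toPSL_apply (hω : ω * ω = 1 + ω) (x : ↥(Γ0 hω)) :
    toPSL hω x = QuotientGroup.mk x.1.2.2 := rfl

theorem toPSL_surjective (hω : ω * ω = 1 + ω) (hb : Function.Bijective (val4 ω)) :
    Function.Surjective (toPSL hω) := by
  intro y
  obtain ⟨g, rfl⟩ := QuotientGroup.mk'_surjective _ y
  have hS : (toPSL hω).range.comap (QuotientGroup.mk' (Subgroup.center (SpecialLinearGroup (Fin 3) F))) = ⊤ :=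
    mem_of_transvecs hω hb _ (fun z hz => by
      rw [Subgroup.mem_comap, show QuotientGroup.mk' (Subgroup.center (SpecialLinearGroup (Fin 3) F)) z = 1 from
        (QuotientGroup.eq_one_iff z).2 hz]
      exact one_mem _)
      fun i => ⟨⟨gen hω i, Subgroup.subset_closure ⟨i, rfl⟩⟩, rfl⟩
  exact hS.ge (Subgroup.mem_top g)

/-- The kernel of the projection consists of scalars. -/
theorem toPSL_ker (hω : ω * ω = 1 + ω) (hb : Function.Bijective (val4 ω)) {x : ↥(Γ0 hω)}
    (hx : x ∈ (toPSL hω).ker) : ∃ (r r' : R9) (s : F), valW x.1 = (r • 1, r' • 1, s • 1) := by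
  obtain ⟨s, hs, hse⟩ := Matrix.SpecialLinearGroup.mem_center_iff.1
    ((QuotientGroup.eq_one_iff _).1 (show QuotientGroup.mk' _ x.1.2.2 = 1 from hx))
  obtain ⟨p, hp, hrel⟩ := exists_rel hω x.2
  simp only [Fintype.card_fin] at hs
  have hs0 : s ≠ 0 := fun h => by simp [h] at hs
  have hfix : ∀ k, p (P0 k) = P0 k := by
    intro k
    obtain ⟨j, hj, c, hc⟩ := hrel.1 k
    rw [← hse, scalar_apply] at hc
    obtain ⟨d, hd⟩ := hb.2 (s⁻¹ * c)
    have : k = j := points_distinct k j d fun i => hb.1 (by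
      have hi : s * pv ω k i = c * pv ω j i := by
        have := congrFun hc i
        simpa [Matrix.mulVec_diagonal] using this
      rw [val4_mul hω, hd]
      show pv ω k i = _ * pv ω j i
      rw [mul_assoc, ← hi, inv_mul_cancel_left₀ hs0])
    rw [hj, this]
  have hp1 : p = 1 := eq_one_of_fixes ops (fun _ h => absurd h List.not_mem_nil) chain_check p hp
    fun l hl => by
      have hb' := bases_lt l hl
      have e : ops.pt l.base = P0 ⟨l.base, hb'⟩ :=
        Fin.ext (by simp [ops, CfsgLib.Golay.PackPerm.ops, P0, Nat.mod_eq_of_lt (show l.base < 133 by omega)])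
      rw [e, Equiv.Perm.smul_def, hfix]
  subst hp1
  obtain ⟨r, hr⟩ := scalar_of_fix (fun a b h => Fin.ext (by simpa [P1] using h)) hrel.2.1
  obtain ⟨r', hr'⟩ := scalar_of_fix (fun a b h => Fin.ext (by simpa [P2] using h)) hrel.2.2
  refine ⟨r, r', s, Prod.ext hr (Prod.ext hr' ?_)⟩
  show x.1.2.2.1 = _
  rw [← hse, scalar_apply]
  exact (smul_one_eq_diagonal s).symm

theorem toPSL_central (hω : ω * ω = 1 + ω) (hb : Function.Bijective (val4 ω)) :
    (toPSL hω).ker ≤ Subgroup.center ↥(Γ0 hω) := by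
  intro x hx
  obtain ⟨r, r', s, e⟩ := toPSL_ker hω hb hx
  refine Subgroup.mem_center_iff.2 fun y => Subtype.ext (valW_injective ?_)
  show valW (y.1 * x.1) = valW (x.1 * y.1)
  rw [map_mul, map_mul, e]
  refine Prod.ext ?_ (Prod.ext ?_ ?_) <;> simp

theorem subC_lt {w : List ℕ} (hw : ∀ l ∈ w, l < 4) : ∀ l ∈ subC w, l < 4 := by
  intro l hl
  simp only [subC, List.mem_flatMap] at hl
  obtain ⟨a, ha, hl⟩ := hl
  have := hw a ha
  interval_cases a <;> simp [cWord] at hl <;> omega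

theorem wordW_append (hω : ω * ω = 1 + ω) (x y : List ℕ) :
    wordW hω (x ++ y) = wordW hω x * wordW hω y := by simp [wordW]

theorem central_subC : ∀ k : Fin 3, subC (central.getD k.val []) = subst (central.getD k.val []) ∧
    ∀ l ∈ central.getD k.val [], l < 4 := by decide +kernel

theorem tri_triple : ∀ m : Fin 4, v9 ([3, 1, 6, 2].getD m.val 0) = (v9 1) ^ m.val := by decide +kernel

theorem mT_tri (hω : ω * ω = 1 + ω) {m n k : ℕ} (hm : m < 4) (hn : n < 4) (hk : k < 3) :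
    mT ω (tri m n k) = zTriple ω ((k : ZMod 3), (m : ZMod 4), (n : ZMod 4)) := by
  rw [tri, val_scalC, zTriple]
  simp only [ZMod.val_natCast, Nat.mod_eq_of_lt hm, Nat.mod_eq_of_lt hn, Nat.mod_eq_of_lt hk]
  rw [show v9 ([3, 1, 6, 2].getD m 0) = (v9 1) ^ m from tri_triple ⟨m, hm⟩,
    show v9 ([3, 1, 6, 2].getD n 0) = (v9 1) ^ n from tri_triple ⟨n, hn⟩]
  congr 3
  interval_cases k
  · rw [pow_zero]; rfl
  · rw [pow_one]; rfl
  · rw [pow_two, hω]; rfl

/-- The letters: two commutators and their inverses. -/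
def cLet {X : Type*} [Group X] (x y : X) (i : ℕ) : X :=
  match i % 4 with
  | 0 => ⁅x, y⁆
  | 1 => ⁅x, y * y⁆
  | 2 => ⁅x, y⁆⁻¹
  | _ => ⁅x, y * y⁆⁻¹

theorem cLet_flip {X : Type*} [Group X] (x y : X) (i : ℕ) : cLet x y ((i + 2) % 4) = (cLet x y i)⁻¹ := by
  rcases (by omega : i % 4 = 0 ∨ i % 4 = 1 ∨ i % 4 = 2 ∨ i % 4 = 3) with h | h | h | h <;>
    simp [cLet, Nat.mod_mod, show (i + 2) % 4 = (i % 4 + 2) % 4 by omega, h]

theorem map_cLet {X Y : Type*} [Group X] [Group Y] (f : X →* Y) (x y : X) (i : ℕ) :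
    f (cLet x y i) = cLet (f x) (f y) i := by
  rcases (by omega : i % 4 = 0 ∨ i % 4 = 1 ∨ i % 4 = 2 ∨ i % 4 = 3) with h | h | h | h <;>
    simp [cLet, h, map_commutatorElement]

/-- The derived group of a pullback of two central extensions of a perfect group. -/
theorem exists_pullback.{uX, uE, uQ} {X : Type uX} {E : Type uE} {Q : Type uQ} [Group X] [Finite X] [Group E] [Finite E] [Group Q]
    (π : X →* Q) (τ : E →* Q) (hπ : Function.Surjective π) (hτ : Function.Surjective τ)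
    (hQ : commutator Q = ⊤) (hπc : π.ker ≤ Subgroup.center X) (hτc : τ.ker ≤ Subgroup.center E)
    (hperf : commutator E = ⊤) (x0 x1 : X) :
    ∃ (D : Type (max uX uE)) (_ : Group D) (_ : Finite D) (q1 : D →* X) (q2 : D →* E) (σ : D →* Q) (lp : List ℕ → D),
      Cfsg.IsStemExtension σ ∧ (∀ d, π (q1 d) = σ d) ∧ (∀ d, τ (q2 d) = σ d) ∧ Function.Surjective q2 ∧
      lp [] = 1 ∧ (∀ x y, lp (x ++ y) = lp x * lp y) ∧ (∀ w, lp (invW w) = (lp w)⁻¹) ∧
      ∀ w, q1 (lp w) = (w.map (cLet x0 x1)).prod := by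
  let P : Subgroup (X × E) := MonoidHom.eqLocus (π.comp (MonoidHom.fst _ _)) (τ.comp (MonoidHom.snd _ _))
  let ρ : ↥P →* Q := (π.comp (MonoidHom.fst _ _)).comp P.subtype
  have hmem : ∀ p : ↥P, τ p.1.2 = π p.1.1 := fun p => p.2.symm
  have hρ : Function.Surjective ρ := fun y => by
    obtain ⟨x, rfl⟩ := hπ y
    obtain ⟨m, hm⟩ := hτ (π x)
    exact ⟨⟨(x, m), hm.symm⟩, rfl⟩
  have hρc : ρ.ker ≤ Subgroup.center ↥P := by
    intro x hx
    have h1 : π x.1.1 = 1 := hx
    have h2 : τ x.1.2 = 1 := (hmem x).trans h1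
    refine Subgroup.mem_center_iff.2 fun y => Subtype.ext (Prod.ext ?_ ?_)
    · exact Subgroup.mem_center_iff.1 (hπc h1) y.1.1
    · exact Subgroup.mem_center_iff.1 (hτc h2) y.1.2
  have hsnd : Function.Surjective ((MonoidHom.snd _ _).comp P.subtype : ↥P →* E) := fun y => by
    obtain ⟨x, hx⟩ := hπ (τ y)
    exact ⟨⟨(x, y), hx⟩, rfl⟩
  obtain ⟨m0, hm0⟩ := hτ (π x0)
  obtain ⟨m1, hm1⟩ := hτ (π x1)
  let p0 : ↥P := ⟨(x0, m0), hm0.symm⟩
  let p1 : ↥P := ⟨(x1, m1), hm1.symm⟩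
  have hin : ∀ i, cLet p0 p1 i ∈ commutator ↥P := by
    intro i
    have hc : ∀ u v : ↥P, ⁅u, v⁆ ∈ commutator ↥P := fun u v =>
      Subgroup.commutator_mem_commutator (Subgroup.mem_top u) (Subgroup.mem_top v)
    rcases (by omega : i % 4 = 0 ∨ i % 4 = 1 ∨ i % 4 = 2 ∨ i % 4 = 3) with h | h | h | h <;>
      simp only [cLet, h]
    exacts [hc _ _, hc _ _, inv_mem (hc _ _), inv_mem (hc _ _)]
  let lp : List ℕ → ↥(commutator ↥P) := fun w => (w.map fun i => (⟨cLet p0 p1 i, hin i⟩ : ↥(commutator ↥P))).prod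
  refine ⟨↥(commutator ↥P), inferInstance, inferInstance,
    ((MonoidHom.fst _ _).comp P.subtype).comp (commutator ↥P).subtype,
    ((MonoidHom.snd _ _).comp P.subtype).comp (commutator ↥P).subtype, ρ.comp (commutator ↥P).subtype, lp,
    ⟨fun y => ?_, fun x hx => Subgroup.mem_center_iff.2 fun y =>
      Subtype.ext (Subgroup.mem_center_iff.1 (hρc (show ρ x.1 = 1 from hx)) y.1), ?_⟩,
    fun d => rfl, fun d => hmem d.1, fun e => ?_, rfl, fun x y => by simp only [lp, List.map_append, List.prod_append], fun w => ?_, fun w => ?_⟩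
  · obtain ⟨p, hp, e⟩ := (CfsgLib.Schur.Tails.commutator_mul_ker hQ hρ).ge (Subgroup.mem_top y)
    exact ⟨⟨p, hp⟩, e⟩
  · rw [CfsgLib.Schur.Tails.derived_perfect hQ hρ hρc]
    exact le_top
  · obtain ⟨p, hp, e'⟩ := (CfsgLib.Schur.Tails.commutator_mul_ker hperf hsnd).ge (Subgroup.mem_top e)
    exact ⟨⟨p, hp⟩, e'⟩
  · induction w with
    | nil => simp [lp, invW]
    | cons i w ih =>
      have e : (⟨cLet p0 p1 ((i + 2) % 4), hin _⟩ : ↥(commutator ↥P)) = ⟨cLet p0 p1 i, hin i⟩⁻¹ :=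
        Subtype.ext (cLet_flip p0 p1 i)
      have e2 : lp (invW (i :: w)) = lp (invW w) * ⟨cLet p0 p1 ((i + 2) % 4), hin _⟩ := by simp [lp, invW]
      rw [e2, ih, e, ← _root_.mul_inv_rev]
      rfl
  · rw [map_list_prod, List.map_map]
    refine congrArg List.prod (List.map_congr_left fun i _ => ?_)
    exact map_cLet ((MonoidHom.fst _ _).comp P.subtype) p0 p1 i

variable {E : Type*} [Group E] [Finite E]

/-- The lift of words. -/
theorem exists_lift (hF : Fintype.card F = 4) (hω : ω * ω = 1 + ω) (hb : Function.Bijective (val4 ω))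
    (τ : E →* ProjectiveSpecialLinearGroup (Fin 3) F) (hτ : Function.Surjective τ) (z : E)
    (hker : τ.ker = Subgroup.zpowers z) (hz : orderOf z = 4) (hc : τ.ker ≤ Subgroup.center E)
    (hperf : commutator E = ⊤) :
    ∃ (L : List ℕ → E) (u v : Fin 4), (u.val % 2 = 1 ∨ v.val % 2 = 1) ∧ L [] = 1 ∧
      (∀ x y, L (x ++ y) = L x * L y) ∧ (∀ w, L (invW w) = (L w)⁻¹) ∧
      (∀ w, (∀ l ∈ w, l < 4) → ∃ S : SpecialLinearGroup (Fin 3) F,
        τ (L w) = QuotientGroup.mk S ∧ S.1 = m3 ω (evC w).2.2) ∧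
      ∀ w, (∀ l ∈ w, l < 4) → ∀ m n k : ℕ, m < 4 → n < 4 → k < 3 →
        mT ω (evC w) = mT ω (tri m n k) → L w = z ^ (u.val * m + v.val * n) := by
  have hperfL := CfsgLib.Schur.L34.perfect_PSL34 hF
  have hπ := toPSL_surjective hω hb
  have hg : ∀ i : Fin 2, gen hω i ∈ Γ0 hω := fun i => Subgroup.subset_closure ⟨i, rfl⟩
  obtain ⟨D, instD, finD, qX, q2, σ, lp, hσ, hσ1, hσ2, hq2s, lp_nil, lp_append, lp_inv, hq1⟩ :=
    exists_pullback (toPSL hω) τ hπ hτ hperfL (toPSL_central hω hb) hc hperf ⟨gen hω 0, hg 0⟩ ⟨gen hω 1, hg 1⟩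
  obtain ⟨π', hπ'⟩ := CfsgLib.Schur.L34.exists_surjection hF hσ
  have hfin : Finite σ.ker := Finite.of_surjective _ hπ'
  have h48 : Nat.card σ.ker ≤ 48 := (Nat.card_le_card_of_surjective _ hπ').trans (by simp)
  obtain ⟨q1, hq1d⟩ : ∃ q1 : D →* W F, ∀ d, q1 d = (qX d).1 := ⟨(Γ0 hω).subtype.comp qX, fun _ => rfl⟩
  have hσq : ∀ d, σ d = QuotientGroup.mk (q1 d).2.2 := fun d => by rw [← hσ1, hq1d]; rfl
  have hlet : ∀ i < 4, (cLet (⟨gen hω 0, hg 0⟩ : ↥(Γ0 hω)) ⟨gen hω 1, hg 1⟩ i).1 = wordW hω (cWord i) := by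
    intro i hi
    rw [← Subgroup.coe_subtype, map_cLet]
    rcases (by omega : i = 0 ∨ i = 1 ∨ i = 2 ∨ i = 3) with rfl | rfl | rfl | rfl <;>
      simp [cLet, cWord, wordW, gLet, commutatorElement_def, mul_assoc]
  have hval : ∀ w, (∀ l ∈ w, l < 4) → valW (q1 (lp w)) = mT ω (evC w) := by
    intro w hw
    have e : q1 (lp w) = wordW hω (subC w) := by
      rw [hq1d, hq1]
      clear * - hw hlet
      induction w with
      | nil => rfl
      | cons i w ih =>
        rw [List.map_cons, List.prod_cons, Subgroup.coe_mul, hlet i (hw i List.mem_cons_self),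
          ih fun l hl => hw l (List.mem_cons_of_mem _ hl), ← wordW_append]
        rfl
    rw [e, valW_word hω (subC_lt hw), evC, evF_eq]
  -- the kernel
  obtain ⟨d0, d1, d2⟩ := central_eq
  have hz' : ∀ k, k < 3 → valW (q1 (lp (central.getD k []))) =
      mT ω (Schur.L34Data.ev (subst (central.getD k []))) := fun k hk => by
    rw [hval _ (central_subC ⟨k, hk⟩).2, evC, evF_eq, (central_subC ⟨k, hk⟩).1]
  obtain ⟨z0, hz0⟩ : ∃ x, x = lp (central.getD 0 []) := ⟨_, rfl⟩
  obtain ⟨z1, hz1⟩ : ∃ x, x = lp (central.getD 1 []) := ⟨_, rfl⟩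
  obtain ⟨z2, hz2⟩ : ∃ x, x = lp (central.getD 2 []) := ⟨_, rfl⟩
  have v0 : valW (q1 z0) = mT ω (scalC 1 3 1) := by
    have e := hz' 0 (by norm_num)
    rw [d0] at e
    rw [hz0]
    exact e
  have v1 : valW (q1 z1) = mT ω (scalC 3 1 1) := by
    have e := hz' 1 (by norm_num)
    rw [d1] at e
    rw [hz1]
    exact e
  have v2 : valW (q1 z2) = mT ω (scalC 3 3 2) := by
    have e := hz' 2 (by norm_num)
    rw [d2] at e
    rw [hz2]
    exact e
  rw [val_scalC] at v0 v1 v2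
  have h91 : v9 3 = 1 := by decide
  have h41 : val4 ω (c4 1) = 1 := rfl
  have h4w : val4 ω (c4 2) = ω := rfl
  rw [h91, h41] at v0 v1
  rw [h91, h4w] at v2
  have hpow : ∀ a : ZMod 3 × ZMod 4 × ZMod 4,
      valW (q1 (z2 ^ a.1.val * z0 ^ a.2.1.val * z1 ^ a.2.2.val)) = zTriple ω a := by
    intro a
    simp only [map_mul, map_pow, v0, v1, v2]
    refine Prod.ext ?_ (Prod.ext ?_ ?_) <;> simp [zTriple, smul_pow]
  have hw3 : ω ^ 3 = 1 := by
    have h2 : (2 : F) = 0 := CharTwo.two_eq_zero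
    linear_combination (ω + 1) * hω + ω * h2
  have hσmem : ∀ (x : D) (s : F), s ^ 3 = 1 → (valW (q1 x)).2.2 = s • 1 → σ x = 1 := by
    intro x s hs3 hs
    rw [hσq]
    refine (QuotientGroup.eq_one_iff _).2 (Matrix.SpecialLinearGroup.mem_center_iff.2
      ⟨s, by simpa using hs3, ?_⟩)
    rw [scalar_apply, ← smul_one_eq_diagonal]
    exact hs.symm
  let Gm : ZMod 3 × ZMod 4 × ZMod 4 → σ.ker := fun a =>
    ⟨z2 ^ a.1.val * z0 ^ a.2.1.val * z1 ^ a.2.2.val, hσmem _ (ω ^ a.1.val)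
      (by rw [← pow_mul, mul_comm, pow_mul, hw3, one_pow]) (by rw [hpow]; rfl)⟩
  obtain ⟨-, iinj, -⟩ := pow_i_facts
  have hw0 : ω ≠ 0 := fun h => by simp [h] at hω
  have hw1 : ω ≠ 1 := fun h => by
    have := hb.1 (a₁ := (1 : Fin 4)) (a₂ := 2) (by simp [val4, h])
    exact absurd this (by decide)
  have winj : ∀ x y : Fin 3, ω ^ x.val = ω ^ y.val → x = y := by
    have hw2 : ω ^ 2 ≠ 1 := fun h => hw1 (by
      calc ω = ω ^ 3 * ω := by rw [hw3, one_mul]
        _ = (ω ^ 2) ^ 2 := by ring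
        _ = 1 := by rw [h, one_pow])
    have hw21 : ω ^ 2 ≠ ω := fun h => hw1 (mul_left_cancel₀ hw0 (by rw [mul_one, ← pow_two, h]))
    intro x y
    fin_cases x <;> fin_cases y <;> simp [hw1, Ne.symm hw1, hw2, Ne.symm hw2, hw21, Ne.symm hw21]
  have Ginj : Function.Injective Gm := by
    intro a b h
    have h' := congrArg (fun x : σ.ker => valW (q1 x.1)) h
    simp only [Gm, hpow] at h'
    exact Prod.ext (winj _ _ (smul_one_inj (congrArg (fun x : Schur.L34Data.M F => x.2.2) h')))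
      (Prod.ext (iinj _ _ (smul_one_inj (congrArg Prod.fst h')))
        (iinj _ _ (smul_one_inj (congrArg (fun x : Schur.L34Data.M F => x.2.1) h'))))
  have Gbij : Function.Bijective Gm := Ginj.bijective_of_nat_card_le (h48.trans (by simp))
  have hinj : ∀ x ∈ σ.ker, valW (q1 x) = 1 → x = 1 := by
    intro x hx h
    obtain ⟨a, ha⟩ := Gbij.2 ⟨x, hx⟩
    have h0 : Gm 0 = 1 := Subtype.ext (by simp [Gm])
    have ex : x = z2 ^ a.1.val * z0 ^ a.2.1.val * z1 ^ a.2.2.val := (congrArg Subtype.val ha).symm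
    rw [ex, hpow] at h
    have : a = 0 := by
      refine Prod.ext (winj a.1 0 ?_) (Prod.ext (iinj a.2.1 0 ?_) (iinj a.2.2 0 ?_))
      · refine (smul_one_inj ((congrArg (fun x : Schur.L34Data.M F => x.2.2) h).trans (one_smul F _).symm)).trans ?_
        simp
      · refine (smul_one_inj ((congrArg Prod.fst h).trans (one_smul R9 _).symm)).trans ?_
        simp
      · refine (smul_one_inj ((congrArg (fun x : Schur.L34Data.M F => x.2.1) h).trans (one_smul R9 _).symm)).trans ?_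
        simp
    rw [ex, this]
    simp
  -- the images in the extension
  have hq2 : ∀ x ∈ σ.ker, ∃ n : Fin 4, q2 x = z ^ n.val := by
    intro x hx
    have h : q2 x ∈ τ.ker := by
      rw [MonoidHom.mem_ker]
      exact (hσ2 x).trans hx
    rw [hker, Subgroup.mem_zpowers_iff] at h
    obtain ⟨j, hj⟩ := h
    refine ⟨⟨(j % 4).toNat, by omega⟩, ?_⟩
    rw [← hj, ← zpow_mod_orderOf z j, hz, ← zpow_natCast, Int.toNat_of_nonneg (Int.emod_nonneg _ (by norm_num))]
    rfl
  have m0k : z0 ∈ σ.ker := hσmem _ 1 (one_pow 3) (by rw [v0])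
  have m1k : z1 ∈ σ.ker := hσmem _ 1 (one_pow 3) (by rw [v1])
  have m2k : z2 ∈ σ.ker := hσmem _ ω hw3 (by rw [v2])
  obtain ⟨u, hu⟩ := hq2 _ m0k
  obtain ⟨v, hv⟩ := hq2 _ m1k
  obtain ⟨w2, hw2'⟩ := hq2 _ m2k
  have hC : q2 z2 = 1 := by
    have h3 : z2 ^ 3 = 1 := hinj _ (pow_mem m2k 3) (by
      simp only [map_pow, v2]
      refine Prod.ext ?_ (Prod.ext ?_ ?_) <;> simp [smul_pow, hw3])
    have h := congrArg q2 h3
    rw [map_pow, map_one, hw2', ← pow_mul] at h
    have hd := orderOf_dvd_of_pow_eq_one h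
    rw [hz] at hd
    have : w2.val = 0 := by
      have := w2.isLt
      omega
    rw [hw2', this, pow_zero]
  have hG : ∀ a, q2 (Gm a).1 = z ^ (u.val * a.2.1.val + v.val * a.2.2.val) := fun a => by
    show q2 (z2 ^ a.1.val * z0 ^ a.2.1.val * z1 ^ a.2.2.val) = _
    rw [map_mul, map_mul, map_pow, map_pow, map_pow, hC, hu, hv, one_pow, one_mul, ← pow_mul, ← pow_mul, pow_add]
  refine ⟨fun w => q2 (lp w), u, v, ?_, by simp [lp_nil], fun x y => by simp only [lp_append, map_mul],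
    fun w => by simp only [lp_inv, map_inv], fun w hw => ?_, fun w hw m n k hm hn hk h => ?_⟩
  · -- one of the two exponents is odd
    obtain ⟨x, hx⟩ := hq2s z
    have hxk : x ∈ σ.ker := by
      have h1 : τ z = 1 := by
        have : z ∈ τ.ker := hker ▸ Subgroup.mem_zpowers z
        exact this
      rw [← hx] at h1
      exact (hσ2 x).symm.trans h1
    obtain ⟨a, ha⟩ := Gbij.2 ⟨x, hxk⟩
    have e := hG a
    rw [show (Gm a).1 = x from congrArg Subtype.val ha, hx] at e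
    by_contra hne
    push Not at hne
    set N := u.val * a.2.1.val + v.val * a.2.2.val with hN
    have hpar : N % 2 = 0 := by
      rw [hN, Nat.add_mod, Nat.mul_mod, Nat.mul_mod v.val]
      rw [show u.val % 2 = 0 by omega, show v.val % 2 = 0 by omega]
      simp
    have : z ^ 1 = z ^ N := by rw [pow_one]; exact e
    rw [pow_eq_pow_iff_modEq, hz] at this
    unfold Nat.ModEq at this
    omega
  · exact ⟨(q1 (lp w)).2.2, (hσ2 _).trans (hσq _), congrArg (fun x : Schur.L34Data.M F => x.2.2) (hval w hw)⟩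
  · have hv' : valW (q1 (lp w)) = valW (q1 (Gm ((k : ZMod 3), (m : ZMod 4), (n : ZMod 4))).1) := by
      rw [hval w hw, h, mT_tri hω hm hn hk]
      exact (hpow _).symm
    have e1 := valW_injective hv'
    have hk' : lp w ∈ σ.ker := by
      have : σ (Gm ((k : ZMod 3), (m : ZMod 4), (n : ZMod 4))).1 = 1 := (Gm _).2
      rw [MonoidHom.mem_ker, ← this]
      rw [hσq, hσq, e1]
    have e2 : lp w = (Gm ((k : ZMod 3), (m : ZMod 4), (n : ZMod 4))).1 := by
      rw [← mul_inv_eq_one]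
      refine hinj _ (mul_mem hk' (inv_mem (Gm _).2)) ?_
      rw [map_mul, map_inv, e1, mul_inv_cancel, map_one]
    show q2 (lp w) = _
    rw [e2, hG]
    simp only [ZMod.val_natCast, Nat.mod_eq_of_lt hm, Nat.mod_eq_of_lt hn]

end CfsgLib.ONanRec.Cand
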