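import Cfsg.Agent.Lib.Schur.L34Codes
import Cfsg.Agent.Lib.ONanRec.Cand.Spec

/-!
# Data for the covers of `L₃(4)` inside the centraliser (generated)

Words in the two commutators and their inverses, for the images of the generators under the twelve diagonal-field-graph
automorphisms (index `4 d + 2 f + e`), with the scalars of the relators on them.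
-/

set_option autoImplicit false

namespace CfsgLib.ONanRec.Cand

/-- The images of the first generator. -/
def imA : List (List ℕ) :=
  [[1, 2, 3, 0, 3, 2, 1, 0, 0],
   [1, 0, 1, 1, 2, 1, 1, 0, 1, 2, 2],
   [0, 0, 1, 2, 3, 0, 3, 2, 1],
   [1, 0, 0, 1, 1, 2, 1, 0, 3, 2, 1, 0],
   [1, 1, 2, 3, 3, 2, 1, 1, 2, 2],
   [3, 0, 1, 0, 0, 1, 0, 1, 2, 1, 1],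
   [0, 0, 3, 0, 1, 2, 1, 0, 3, 0],
   [0, 1, 2, 3, 0, 1, 2, 1, 1, 0, 0, 1],
   [1, 1, 0, 0, 1, 0, 3, 3, 0, 3],
   [3, 2, 3, 3, 0, 3, 3, 2, 3, 0, 0],
   [1, 2, 3, 0, 1, 0, 1, 1, 0, 3],
   [0, 0, 3, 2, 1, 1, 2, 3, 0]]

/-- The images of the second generator. -/
def imB : List (List ℕ) :=
  [[0, 1, 1, 0, 3, 0, 1, 2, 3],
   [0, 0, 1, 0, 0, 3],
   [0, 1, 1, 0, 3, 0, 1, 2, 3],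
   [0, 0, 1, 0, 0, 3],
   [1, 1, 0, 0, 1, 0, 3, 3, 2],
   [1, 2, 3, 3, 2, 1, 0, 1, 0],
   [1, 1, 0, 0, 1, 0, 3, 3, 2],
   [1, 2, 3, 3, 2, 1, 0, 1, 0],
   [0, 3, 0, 0, 3, 0, 1, 1],
   [1, 2, 3, 2, 1, 0, 0, 1, 2, 2],
   [0, 3, 0, 0, 3, 0, 1, 1],
   [1, 2, 3, 2, 1, 0, 0, 1, 2, 2]]

/-- The scalars of the six relators. -/
def scalR : List (List (ℕ × ℕ × ℕ)) :=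
  [[(2, 0, 0), (2, 2, 0), (3, 2, 2), (0, 3, 0), (2, 1, 0), (1, 1, 0)],
   [(2, 0, 0), (2, 2, 0), (0, 2, 1), (0, 3, 0), (1, 3, 0), (1, 2, 0)],
   [(2, 0, 0), (2, 2, 0), (2, 1, 1), (2, 3, 0), (1, 0, 0), (1, 3, 0)],
   [(0, 2, 1), (2, 2, 0), (0, 2, 1), (1, 2, 1), (1, 3, 0), (0, 3, 0)],
   [(2, 2, 0), (2, 0, 1), (2, 1, 0), (0, 1, 1), (1, 3, 1), (1, 0, 0)],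
   [(0, 2, 0), (2, 0, 0), (2, 2, 1), (1, 3, 0), (3, 0, 0), (2, 1, 0)],
   [(2, 0, 0), (2, 0, 1), (3, 2, 2), (2, 0, 1), (2, 0, 1), (1, 3, 0)],
   [(0, 2, 2), (2, 0, 0), (3, 0, 0), (3, 1, 2), (0, 2, 0), (2, 3, 0)],
   [(0, 2, 0), (0, 2, 0), (3, 2, 2), (0, 2, 0), (1, 1, 0), (2, 2, 0)],
   [(2, 0, 0), (0, 2, 2), (1, 3, 0), (3, 1, 2), (3, 0, 2), (2, 2, 0)],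
   [(0, 2, 0), (0, 2, 0), (1, 3, 1), (2, 2, 0), (3, 2, 0), (0, 0, 0)],
   [(0, 2, 0), (0, 2, 2), (0, 1, 1), (0, 0, 2), (2, 2, 2), (3, 3, 0)]]

/-- The two covers. -/
def covers : List (List ℕ) := [[0, 0, 0, 0, 0, 1], [0, 0, 0, 0, 2, 1]]

/-- The normal form of a cover. -/
def baseUV : List (ℕ × ℕ × ℕ × ℕ) := [(1, 3, 3, 2), (3, 3, 3, 0)]

/-- Words in the two generators for the letters, up to scalars. -/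
def genW : List (List ℕ) := [[0, 2, 0, 3, 0, 3, 0, 2, 2, 0, 2, 0, 2, 0, 3, 0], [0, 3, 0, 2, 0, 3, 0, 3, 0, 2, 0, 2, 0, 3, 0, 2, 0, 2, 2, 0, 2, 2]]

/-- The triples of the images and of their inverses. -/
def imC : List (List Schur.L34Data.Code) :=
  [[([1, 6, 5, 4, 6, 6, 5, 0, 6, 0, 6, 1, 4, 1, 7, 8], [5, 1, 8, 5, 4, 1, 0, 5, 8, 0, 2, 3, 2, 7, 7, 7], [1, 0, 0, 1, 1, 2, 0, 0, 1]),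
    ([2, 3, 7, 8, 3, 3, 7, 0, 3, 0, 3, 2, 8, 2, 5, 4], [5, 1, 8, 5, 4, 1, 0, 5, 8, 0, 2, 3, 2, 7, 7, 7], [1, 0, 0, 1, 1, 2, 0, 0, 1]),
    ([1, 8, 6, 4, 0, 0, 5, 0, 0, 8, 6, 0, 1, 5, 5, 5], [4, 1, 1, 3, 4, 5, 4, 1, 7, 3, 7, 5, 2, 8, 5, 8], [0, 0, 1, 1, 0, 0, 1, 1, 1]),
    ([7, 2, 7, 4, 0, 3, 5, 0, 0, 8, 0, 0, 1, 5, 8, 2], [2, 3, 5, 8, 1, 2, 8, 1, 1, 5, 4, 4, 7, 1, 3, 7], [0, 1, 0, 1, 1, 1, 1, 0, 0])],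
   [([0, 8, 5, 5, 2, 3, 7, 7, 7, 7, 1, 0, 0, 3, 7, 8], [4, 7, 4, 1, 2, 1, 0, 6, 1, 2, 5, 6, 8, 7, 5, 5], [1, 1, 0, 0, 1, 0, 0, 2, 1]),
    ([0, 4, 7, 7, 1, 6, 5, 5, 5, 5, 2, 0, 0, 6, 5, 4], [4, 7, 4, 1, 2, 1, 0, 6, 1, 2, 5, 6, 8, 7, 5, 5], [1, 1, 0, 0, 1, 0, 0, 2, 1]),
    ([5, 4, 8, 7, 4, 2, 8, 2, 2, 1, 0, 1, 1, 8, 5, 8], [4, 0, 0, 0, 4, 8, 3, 0, 0, 0, 7, 0, 4, 5, 6, 5], [0, 1, 1, 1, 1, 0, 0, 1, 0]),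
    ([0, 8, 6, 5, 6, 7, 1, 7, 0, 2, 7, 2, 3, 1, 7, 7], [7, 0, 0, 0, 7, 5, 3, 0, 0, 0, 4, 0, 6, 7, 7, 8], [0, 1, 1, 0, 0, 1, 1, 0, 1])],
   [([3, 7, 0, 3, 8, 6, 4, 7, 1, 5, 4, 2, 6, 0, 6, 8], [6, 2, 4, 7, 2, 2, 4, 0, 2, 0, 2, 6, 7, 6, 8, 5], [1, 0, 0, 1, 1, 3, 0, 0, 1]),
    ([6, 5, 0, 6, 4, 3, 8, 5, 2, 7, 8, 1, 3, 0, 3, 4], [6, 2, 4, 7, 2, 2, 4, 0, 2, 0, 2, 6, 7, 6, 8, 5], [1, 0, 0, 1, 1, 3, 0, 0, 1]),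
    ([1, 8, 6, 4, 0, 0, 5, 0, 0, 8, 6, 0, 1, 5, 5, 5], [4, 1, 1, 3, 4, 5, 4, 1, 7, 3, 7, 5, 2, 8, 5, 8], [0, 0, 1, 1, 0, 0, 1, 1, 1]),
    ([7, 2, 7, 4, 0, 3, 5, 0, 0, 8, 0, 0, 1, 5, 8, 2], [2, 3, 5, 8, 1, 2, 8, 1, 1, 5, 4, 4, 7, 1, 3, 7], [0, 1, 0, 1, 1, 1, 1, 0, 0])],
   [([8, 5, 8, 2, 1, 2, 0, 3, 2, 1, 7, 3, 4, 5, 7, 7], [2, 4, 3, 3, 0, 6, 1, 1, 3, 6, 2, 1, 6, 5, 4, 5], [3, 3, 0, 0, 3, 0, 0, 2, 3]),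
    ([8, 5, 8, 2, 1, 2, 0, 3, 2, 1, 7, 3, 4, 5, 7, 7], [1, 8, 6, 6, 0, 3, 2, 2, 6, 3, 1, 2, 3, 7, 8, 7], [2, 2, 0, 0, 2, 0, 0, 1, 2]),
    ([5, 4, 8, 7, 4, 2, 8, 2, 2, 1, 0, 1, 1, 8, 5, 8], [4, 0, 0, 0, 4, 8, 3, 0, 0, 0, 7, 0, 4, 5, 6, 5], [0, 1, 1, 1, 1, 0, 0, 1, 0]),
    ([0, 8, 6, 5, 6, 7, 1, 7, 0, 2, 7, 2, 3, 1, 7, 7], [7, 0, 0, 0, 7, 5, 3, 0, 0, 0, 4, 0, 6, 7, 7, 8], [0, 1, 1, 0, 0, 1, 1, 0, 1])],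
   [([8, 0, 3, 0, 2, 3, 7, 7, 7, 0, 4, 0, 6, 4, 0, 6], [8, 7, 1, 3, 0, 8, 7, 2, 6, 5, 2, 2, 8, 5, 3, 6], [1, 0, 0, 3, 1, 2, 0, 0, 1]),
    ([4, 0, 6, 0, 1, 6, 5, 5, 5, 0, 8, 0, 3, 8, 0, 3], [4, 5, 2, 6, 0, 4, 5, 1, 3, 7, 1, 1, 4, 7, 6, 3], [1, 0, 0, 3, 1, 2, 0, 0, 1]),
    ([5, 5, 6, 5, 5, 1, 6, 3, 3, 8, 0, 1, 6, 8, 7, 6], [2, 2, 4, 1, 3, 1, 8, 7, 3, 0, 3, 6, 8, 8, 7, 7], [0, 0, 3, 1, 0, 0, 1, 2, 2]),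
    ([3, 6, 3, 0, 1, 3, 5, 2, 4, 6, 7, 2, 5, 4, 1, 8], [8, 7, 4, 7, 2, 7, 7, 4, 4, 2, 4, 6, 0, 6, 5, 4], [0, 1, 0, 2, 3, 3, 2, 0, 0])],
   [([5, 7, 5, 8, 3, 6, 7, 8, 8, 4, 1, 0, 6, 8, 7, 0], [8, 4, 4, 3, 6, 0, 0, 1, 3, 6, 5, 1, 7, 3, 5, 2], [1, 2, 0, 0, 1, 0, 0, 2, 1]),
    ([5, 7, 5, 8, 3, 6, 7, 8, 8, 4, 1, 0, 6, 8, 7, 0], [4, 8, 8, 6, 3, 0, 0, 2, 6, 3, 7, 2, 5, 6, 7, 1], [1, 2, 0, 0, 1, 0, 0, 2, 1]),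
    ([6, 0, 3, 1, 7, 4, 6, 2, 6, 6, 5, 0, 8, 7, 1, 6], [4, 5, 4, 1, 4, 2, 3, 4, 2, 1, 7, 2, 5, 5, 8, 8], [0, 2, 2, 3, 1, 0, 0, 1, 0]),
    ([6, 3, 0, 1, 1, 4, 0, 2, 6, 6, 8, 0, 2, 1, 5, 3], [4, 2, 8, 1, 8, 5, 3, 8, 1, 5, 7, 1, 2, 0, 2, 5], [0, 2, 2, 0, 0, 1, 3, 0, 1])],
   [([1, 0, 0, 0, 4, 0, 8, 5, 5, 0, 2, 0, 7, 4, 3, 0], [7, 0, 2, 0, 6, 2, 4, 4, 4, 0, 5, 0, 1, 5, 0, 1], [1, 0, 0, 3, 1, 3, 0, 0, 1]),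
    ([2, 0, 0, 0, 8, 0, 4, 7, 7, 0, 1, 0, 5, 8, 6, 0], [7, 0, 2, 0, 6, 2, 4, 4, 4, 0, 5, 0, 1, 5, 0, 1], [1, 0, 0, 3, 1, 3, 0, 0, 1]),
    ([5, 5, 6, 5, 5, 1, 6, 3, 3, 8, 0, 1, 6, 8, 7, 6], [2, 2, 4, 1, 3, 1, 8, 7, 3, 0, 3, 6, 8, 8, 7, 7], [0, 0, 3, 1, 0, 0, 1, 2, 2]),
    ([3, 6, 3, 0, 1, 3, 5, 2, 4, 6, 7, 2, 5, 4, 1, 8], [8, 7, 4, 7, 2, 7, 7, 4, 4, 2, 4, 6, 0, 6, 5, 4], [0, 1, 0, 2, 3, 3, 2, 0, 0])],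
   [([5, 7, 7, 1, 2, 0, 0, 6, 1, 2, 4, 6, 8, 1, 4, 3], [1, 0, 3, 0, 0, 1, 1, 0, 0, 0, 2, 0, 3, 6, 4, 2], [2, 3, 0, 0, 2, 0, 0, 1, 2]),
    ([5, 7, 7, 1, 2, 0, 0, 6, 1, 2, 4, 6, 8, 1, 4, 3], [2, 0, 6, 0, 0, 2, 2, 0, 0, 0, 1, 0, 6, 3, 8, 1], [3, 1, 0, 0, 3, 0, 0, 2, 3]),
    ([6, 0, 3, 1, 7, 4, 6, 2, 6, 6, 5, 0, 8, 7, 1, 6], [4, 5, 4, 1, 4, 2, 3, 4, 2, 1, 7, 2, 5, 5, 8, 8], [0, 2, 2, 3, 1, 0, 0, 1, 0]),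
    ([6, 3, 0, 1, 1, 4, 0, 2, 6, 6, 8, 0, 2, 1, 5, 3], [4, 2, 8, 1, 8, 5, 3, 8, 1, 5, 7, 1, 2, 0, 2, 5], [0, 2, 2, 0, 0, 1, 3, 0, 1])],
   [([7, 2, 4, 7, 7, 2, 8, 7, 5, 7, 0, 0, 2, 1, 5, 3], [2, 3, 7, 8, 5, 0, 0, 8, 4, 8, 3, 0, 6, 6, 4, 7], [1, 0, 0, 2, 1, 2, 0, 0, 1]),
    ([7, 2, 4, 7, 7, 2, 8, 7, 5, 7, 0, 0, 2, 1, 5, 3], [1, 6, 5, 4, 7, 0, 0, 4, 8, 4, 6, 0, 3, 3, 8, 5], [1, 0, 0, 2, 1, 2, 0, 0, 1]),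
    ([7, 8, 8, 5, 7, 4, 2, 3, 3, 8, 4, 6, 5, 4, 0, 3], [6, 8, 1, 4, 3, 0, 2, 0, 0, 5, 4, 2, 8, 3, 2, 2], [0, 0, 3, 2, 0, 0, 2, 1, 1]),
    ([0, 7, 6, 2, 1, 6, 5, 4, 0, 7, 4, 6, 5, 5, 8, 8], [2, 1, 2, 6, 0, 5, 1, 2, 6, 4, 6, 1, 7, 0, 1, 2], [0, 3, 0, 2, 1, 1, 2, 0, 0])],
   [([4, 5, 0, 6, 0, 0, 8, 2, 6, 3, 4, 2, 5, 6, 3, 4], [8, 0, 4, 7, 3, 2, 4, 5, 7, 7, 1, 0, 7, 8, 2, 4], [1, 3, 0, 0, 1, 0, 0, 2, 1]),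
    ([8, 7, 0, 3, 0, 0, 4, 1, 3, 6, 8, 1, 7, 3, 6, 8], [8, 0, 4, 7, 3, 2, 4, 5, 7, 7, 1, 0, 7, 8, 2, 4], [1, 3, 0, 0, 1, 0, 0, 2, 1]),
    ([8, 5, 0, 4, 8, 3, 6, 3, 3, 2, 0, 1, 2, 8, 1, 2], [4, 4, 1, 3, 1, 7, 2, 3, 7, 6, 3, 1, 4, 2, 1, 7], [0, 2, 2, 1, 3, 0, 0, 3, 0]),
    ([1, 3, 8, 2, 7, 3, 1, 2, 4, 0, 5, 2, 4, 4, 5, 5], [2, 8, 0, 6, 1, 1, 2, 3, 4, 3, 3, 2, 8, 3, 6, 6], [0, 1, 1, 0, 0, 2, 3, 0, 2])],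
   [([2, 5, 1, 6, 1, 5, 0, 6, 0, 8, 2, 3, 7, 2, 6, 6], [4, 6, 5, 4, 4, 6, 7, 4, 8, 4, 0, 0, 6, 3, 8, 2], [1, 0, 0, 2, 1, 3, 0, 0, 1]),
    ([2, 5, 1, 6, 1, 5, 0, 6, 0, 8, 2, 3, 7, 2, 6, 6], [8, 3, 7, 8, 8, 3, 5, 8, 4, 8, 0, 0, 3, 6, 4, 1], [1, 0, 0, 2, 1, 3, 0, 0, 1]),
    ([7, 8, 8, 5, 7, 4, 2, 3, 3, 8, 4, 6, 5, 4, 0, 3], [6, 8, 1, 4, 3, 0, 2, 0, 0, 5, 4, 2, 8, 3, 2, 2], [0, 0, 3, 2, 0, 0, 2, 1, 1]),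
    ([0, 7, 6, 2, 1, 6, 5, 4, 0, 7, 4, 6, 5, 5, 8, 8], [2, 1, 2, 6, 0, 5, 1, 2, 6, 4, 6, 1, 7, 0, 1, 2], [0, 3, 0, 2, 1, 1, 2, 0, 0])],
   [([8, 0, 4, 7, 3, 2, 4, 5, 7, 7, 1, 0, 7, 8, 2, 4], [7, 0, 6, 8, 0, 8, 2, 0, 0, 8, 4, 0, 3, 3, 8, 5], [1, 3, 0, 0, 1, 0, 0, 3, 1]),
    ([8, 0, 4, 7, 3, 2, 4, 5, 7, 7, 1, 0, 7, 8, 2, 4], [5, 0, 3, 4, 0, 4, 1, 0, 0, 4, 8, 0, 6, 6, 4, 7], [1, 3, 0, 0, 1, 0, 0, 3, 1]),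
    ([8, 5, 0, 4, 8, 3, 6, 3, 3, 2, 0, 1, 2, 8, 1, 2], [4, 4, 1, 3, 1, 7, 2, 3, 7, 6, 3, 1, 4, 2, 1, 7], [0, 2, 2, 1, 3, 0, 0, 3, 0]),
    ([1, 3, 8, 2, 7, 3, 1, 2, 4, 0, 5, 2, 4, 4, 5, 5], [2, 8, 0, 6, 1, 1, 2, 3, 4, 3, 3, 2, 8, 3, 6, 6], [0, 1, 1, 0, 0, 2, 3, 0, 2])]]

end CfsgLib.ONanRec.Cand
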