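import Cfsg.Agent.Lib.ONanRec.Cand.CoverCodes
import Cfsg.Agent.Lib.ONanRec.Cand.CandShape

/-!
# The tables of the images and of the candidates
-/

set_option autoImplicit false
set_option maxRecDepth 100000

namespace CfsgLib.ONanRec.Cand

open CfsgLib.Schur.L34Data CfsgLib.Generation

/-- The values of the relators. -/
theorem rel_scal (c : Fin 12) (i : Fin 6) :
    evR (imA.getD c.val []) (imB.getD c.val []) (rel i.val) =
      tri (sR c.val i.val).1 (sR c.val i.val).2.1 (sR c.val i.val).2.2 ∧
    (sR c.val i.val).1 < 4 ∧ (sR c.val i.val).2.1 < 4 ∧ (sR c.val i.val).2.2 < 3 := by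
  have h : relOk c.val i.val = true := by
    revert c
    intro c
    fin_cases c
    exacts [rel_ok0 i, rel_ok1 i, rel_ok2 i, rel_ok3 i, rel_ok4 i, rel_ok5 i, rel_ok6 i, rel_ok7 i, rel_ok8 i, rel_ok9 i, rel_ok10 i, rel_ok11 i]
  simp only [relOk, Bool.and_eq_true, decide_eq_true_eq, Nat.blt_eq] at h
  refine ⟨?_, h.1.1.2, h.1.2, h.2⟩
  have e0 : evC (imA.getD c.val []) = imT c.val 0 := im_code c 0
  have e1 : evC (invW (imA.getD c.val [])) = imT c.val 1 := im_code c 1
  have e2 : evC (imB.getD c.val []) = imT c.val 2 := im_code c 2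
  have e3 : evC (invW (imB.getD c.val [])) = imT c.val 3 := im_code c 3
  rw [← h.1.1.1, evR, imR, e0, e1, e2, e3]

/-- The relators are those of the presentation. -/
theorem rel_eq : ∀ i : Fin 6, lRels.getD i.val [] = rel i.val := by decide +kernel

/-- The three non-zero codes. -/
def sc3 : Fin 3 → Fin 4 := ![1, 2, 3]

/-- The Frobenius map on codes. -/
def frob (f : Bool) (x : Fin 4) : Fin 4 := if f then ![0, 1, 3, 2] x else x

/-- The diagonal entries. -/
def dEnt (d : Fin 3) (i : Fin 3) : Fin 4 := if i = 0 then ![1, 2, 3] d else 1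

/-- The inverse diagonal entries. -/
def dInv (d : Fin 3) (i : Fin 3) : Fin 4 := if i = 0 then ![1, 3, 2] d else 1

/-- The image of a table, given with the table of its inverse. -/
def betaM (d : Fin 3) (f e : Bool) (T T' : Fin 3 → Fin 3 → Fin 4) : Fin 3 → Fin 3 → Fin 4 :=
  fun i j => mul4 (mul4 (dEnt d i) (frob f (if e then T' j i else T i j))) (dInv d j)

/-- The table of a base word (`p` for the second), and of its inverse (`o`). -/
def baseT (p o : Bool) : Fin 3 → Fin 3 → Fin 4 :=
  t3 (imT 0 ((if p then 2 else 0) + (if o then 1 else 0))).2.2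

/-- The images are the images. -/
theorem beta_spec : ∀ d : Fin 3, ∀ f e p : Bool, ∃ r : Fin 3, ∀ i j : Fin 3,
    t3 (imT (cIdx d.val f e) (if p then 2 else 0)).2.2 i j =
      mul4 (sc3 r) (betaM d f e (baseT p false) (baseT p true) i j) := by decide +kernel

/-- The base tables and the inverse tables are inverse. -/
theorem baseT_inv : ∀ p : Bool, ∀ i j : Fin 3,
    mulM4 (baseT p false) (baseT p true) i j = if i = j then 1 else 0 := by decide +kernel

/-- The words give the generators up to scalars. -/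
theorem gen_spec : ∀ g : Fin 2, ∃ r : Fin 3, ∀ i j : Fin 3,
    t3 (imR 0 (genW.getD g.val [])).2.2 i j = mul4 (sc3 r) (t3 (letter g.val).2.2 i j) := by
  decide +kernel

/-- The exponent of a scalar code of order four. -/
def getM (x : ℕ) : ℕ := [0, 1, 3, 0, 0, 0, 2].getD x 0

/-- A word of the candidate inverts an image times a power of the central element. -/
def imgOk (h c p e : ℕ) (A : List ℕ) : Bool :=
  fzT (mulT (imT c p) (imR 0 A)) fun C =>
    let m := getM (C.1.headD 0)
    let n := getM (C.2.1.headD 0)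
    let k := C.2.2.headD 0 - 1
    decide (C = tri m n k) && Nat.blt k 3 && Nat.blt m 4 && Nat.blt n 4 &&
      Nat.beq (((base h).1 * m + (base h).2.1 * n + e + lexp (base h).2.2.1 (base h).2.2.2 A) % 4) 0

/-- The candidate of a cover, an outer class and a choice of the square. -/
def kIdx (h c b : ℕ) : Fin 12 := Fin.ofNat 12 (6 * h + [0, 2, 0, 4].getD c 0 + b)

/-- The candidate fits the outer data. -/
def candOk (h : ℕ) (row : ℕ × ℕ × ℕ × ℕ) (b : ℕ) : Bool :=
  let d := candData (kIdx h row.1 b).val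
  decide (d.1 = covers.getD h []) && Nat.beq d.2.2.2.1 row.2.1 &&
    Nat.beq d.2.2.2.2 (if row.2.1 = 3 then 2 * b else b) &&
    imgOk h row.1 0 row.2.2.1 d.2.1 && imgOk h row.1 2 row.2.2.2 d.2.2.1

/-- The candidates fit. -/
theorem cand_ok : ∀ h : Fin 2, ∀ row ∈ outerTab h.val, row.1 ≠ 0 → ∀ b : Fin 2, candOk h.val row b.val = true := by
  decide +kernel

/-- The trivial class is the identity. -/
theorem outer_id : ∀ h : Fin 2, ∀ row ∈ outerTab h.val, row.1 = 0 →
    row = (0, 1, (base h.val).2.2.1, (base h.val).2.2.2) ∧ (imA.getD 0 [] = wA ∧ imB.getD 0 [] = wB) := by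
  decide +kernel

/-- The outer classes have no diagonal part. -/
theorem outer_cls : ∀ h : Fin 2, ∀ row ∈ outerTab h.val, row.1 < 4 ∧ row.2.2.1 < 4 ∧ row.2.2.2 < 4 := by
  decide +kernel

end CfsgLib.ONanRec.Cand
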