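import Cfsg.Agent.Lib.Schur.L34Exists
import Cfsg.Agent.Lib.KnownSimple.PSLAut.Classification
import Cfsg.Agent.Lib.ONanRec.Cand.CoverTables

/-!
# Automorphisms of `L₃(4)` on the base matrices
-/

set_option autoImplicit false
set_option linter.unusedSectionVars false

namespace CfsgLib.ONanRec.Cand

open CfsgLib.Schur.L34Data CfsgLib.Generation CfsgLib.PSLAut Matrix

variable {F : Type} [Field F] [Fintype F] [CharP F 2] {ω : F}

theorem val4_unit (hω : ω * ω = 1 + ω) : ∀ d : Fin 3, ∀ i : Fin 3,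
    val4 ω (dEnt d i) * val4 ω (dInv d i) = 1 := by
  intro d i
  rw [← val4_mul hω, show mul4 (dEnt d i) (dInv d i) = 1 by revert d i; decide]
  rfl

/-- The diagonal matrix `diag(ω^d, 1, 1)`. -/
def dGL (hω : ω * ω = 1 + ω) (d : Fin 3) : GL (Fin 3) F :=
  ⟨Matrix.diagonal fun i => val4 ω (dEnt d i), Matrix.diagonal fun i => val4 ω (dInv d i),
    by rw [diagonal_mul_diagonal, ← diagonal_one]; exact congrArg _ (funext fun i => val4_unit hω d i),
    by rw [diagonal_mul_diagonal, ← diagonal_one]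
       exact congrArg _ (funext fun i => (mul_comm _ _).trans (val4_unit hω d i))⟩

/-- A diagonal times field times graph automorphism. -/
noncomputable def bAut (hω : ω * ω = 1 + ω) (d : Fin 3) (σ : F ≃+* F) (e : Bool) :
    MulAut (ProjectiveSpecialLinearGroup (Fin 3) F) :=
  conjAut (dGL hω d) * fieldAut σ * (if e then iotaAut else 1)

/-- An automorphism of the field is trivial or Frobenius. -/
theorem exists_frob (hω : ω * ω = 1 + ω) (hb : Function.Bijective (val4 ω)) (σ : F ≃+* F) :
    ∃ f : Bool, ∀ c, σ (val4 ω c) = val4 ω (frob f c) := by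
  have h2 : (2 : F) = 0 := CharTwo.two_eq_zero
  obtain ⟨c, hc⟩ := hb.2 (σ ω)
  have hr : σ ω * σ ω = 1 + σ ω := by rw [← map_mul, hω, map_add, map_one]
  rw [← hc] at hr
  fin_cases c
  · simp [val4] at hr
  · simp [val4] at hr
  · refine ⟨false, fun a => ?_⟩
    have hs : σ ω = ω := hc.symm
    fin_cases a <;> simp [val4, frob, hs]
  · refine ⟨true, fun a => ?_⟩
    have hs : σ ω = 1 + ω := hc.symm
    have h1 : (1 : F) + (1 + ω) = ω := by linear_combination h2
    fin_cases a <;> simp [val4, frob, hs, h1]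

/-- The automorphisms of the field are involutions. -/
theorem frob_sq (hω : ω * ω = 1 + ω) (hb : Function.Bijective (val4 ω)) (σ : F ≃+* F) :
    (fieldAut σ : MulAut (ProjectiveSpecialLinearGroup (Fin 3) F)) * fieldAut σ = 1 := by
  obtain ⟨f, hf⟩ := exists_frob hω hb σ
  rw [← map_mul, ← map_one (fieldAut (F := F) (n := 3))]
  refine congrArg _ (RingEquiv.ext fun a => ?_)
  obtain ⟨c, rfl⟩ := hb.2 a
  show σ (σ (val4 ω c)) = val4 ω c
  rw [hf, hf]
  congr 1
  revert c
  cases f <;> decide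

/-- Matrices agreeing up to a scalar give the same element. -/
theorem mk_eq_of_smul (hω : ω * ω = 1 + ω) (r : Fin 3) {S S' : SpecialLinearGroup (Fin 3) F}
    (h : ∀ i j, S'.1 i j = val4 ω (sc3 r) * S.1 i j) :
    (QuotientGroup.mk S' : ProjectiveSpecialLinearGroup (Fin 3) F) = QuotientGroup.mk S := by
  have h3 : val4 ω (sc3 r) ^ 3 = 1 := by
    rw [pow_succ, pow_two, ← val4_mul hω, ← val4_mul hω]
    rw [show mul4 (mul4 (sc3 r) (sc3 r)) (sc3 r) = 1 by clear h; revert r; decide]
    rfl
  let z : SpecialLinearGroup (Fin 3) F := ⟨Matrix.scalar (Fin 3) (val4 ω (sc3 r)), by simpa using h3⟩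
  have hz : z ∈ Subgroup.center (SpecialLinearGroup (Fin 3) F) :=
    Matrix.SpecialLinearGroup.mem_center_iff.2 ⟨_, by simpa using h3, rfl⟩
  have he : S' = z * S := Subtype.ext (by
    show S'.1 = Matrix.scalar (Fin 3) (val4 ω (sc3 r)) * S.1
    ext i j
    rw [scalar_apply, Matrix.diagonal_mul]
    exact h i j)
  rw [he, QuotientGroup.mk_mul, (QuotientGroup.eq_one_iff z).2 hz, one_mul]

/-- An element with a base table has the inverse table as inverse. -/
theorem base_inverse (hω : ω * ω = 1 + ω) {p : Bool} {S : SpecialLinearGroup (Fin 3) F}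
    (hS : S.1 = Matrix.of fun i j => val4 ω (baseT p false i j)) :
    (S⁻¹ : SpecialLinearGroup (Fin 3) F).1 = Matrix.of fun i j => val4 ω (baseT p true i j) := by
  refine left_inv_eq_right_inv (congrArg Subtype.val (inv_mul_cancel S)) ?_
  rw [hS, ← val4_mulM hω]
  ext i j
  rw [Matrix.of_apply, baseT_inv, Matrix.one_apply]
  split_ifs <;> rfl

/-- The image of a base element. -/
theorem bAut_base (hω : ω * ω = 1 + ω) (d : Fin 3) {σ : F ≃+* F} {f : Bool}
    (hf : ∀ c, σ (val4 ω c) = val4 ω (frob f c)) (e p : Bool) {S S' : SpecialLinearGroup (Fin 3) F}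
    (hS : S.1 = Matrix.of fun i j => val4 ω (baseT p false i j))
    (hS' : S'.1 = m3 ω (imT (cIdx d.val f e) (if p then 2 else 0)).2.2) :
    bAut hω d σ e (QuotientGroup.mk S) = QuotientGroup.mk S' := by
  obtain ⟨r, hr⟩ := beta_spec d f e p
  set Y : SpecialLinearGroup (Fin 3) F := if e then iotaSL S else S with hY
  have hmk : bAut hω d σ e (QuotientGroup.mk S) = QuotientGroup.mk (conjSL (dGL hω d) (fieldSL σ Y)) := by
    cases e <;> simp [bAut, hY]
  have hYv : ∀ i j, Y.1 i j = val4 ω (if e then baseT p true j i else baseT p false i j) := by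
    intro i j
    cases e
    · simp [hY, hS]
    · simp [hY, iotaSL_coe, base_inverse hω hS]
  rw [hmk]
  refine (mk_eq_of_smul hω r fun i j => ?_).symm
  have hX : (conjSL (dGL hω d) (fieldSL σ Y)).1 i j =
      val4 ω (betaM d f e (baseT p false) (baseT p true) i j) := by
    rw [conjSL_coe, fieldSL_coe]
    show (Matrix.diagonal (fun i => val4 ω (dEnt d i)) * Y.1.map σ *
      Matrix.diagonal fun i => val4 ω (dInv d i)) i j = _
    rw [Matrix.mul_diagonal, Matrix.diagonal_mul, Matrix.map_apply, hYv, hf, betaM, val4_mul hω, val4_mul hω]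
  rw [hX, ← val4_mul hω, ← hr]
  rw [hS']
  rfl

/-- The determinant of an invertible matrix is realised by one of the diagonal matrices. -/
theorem exists_diag (hω : ω * ω = 1 + ω) (hb : Function.Bijective (val4 ω)) (g : GL (Fin 3) F) :
    ∃ (d : Fin 3) (s : SpecialLinearGroup (Fin 3) F),
      (conjAut g : MulAut (ProjectiveSpecialLinearGroup (Fin 3) F)) =
        MulAut.conj (QuotientGroup.mk s : ProjectiveSpecialLinearGroup (Fin 3) F) * conjAut (dGL hω d) := by
  obtain ⟨c, hc⟩ := hb.2 (g : Matrix (Fin 3) (Fin 3) F).det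
  have hc0 : c ≠ 0 := fun h => by
    subst h
    exact (Matrix.isUnit_iff_isUnit_det _).1 g.isUnit |>.ne_zero (by rw [← hc]; rfl)
  obtain ⟨d, rfl⟩ : ∃ d : Fin 3, c = sc3 d := by clear hc; revert hc0; revert c; decide
  have hdet : ((g * (dGL hω d)⁻¹ : GL (Fin 3) F) : Matrix (Fin 3) (Fin 3) F).det = 1 := by
    rw [Units.val_mul, Matrix.det_mul, ← hc]
    show _ * (Matrix.diagonal fun i => val4 ω (dInv d i)).det = 1
    rw [Matrix.det_diagonal, Fin.prod_univ_three]
    have h := val4_unit hω d 0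
    simpa [dEnt, dInv, val4, sc3] using h
  let s : SpecialLinearGroup (Fin 3) F := ⟨_, hdet⟩
  refine ⟨d, s, ?_⟩
  rw [conj_eq_conjAut, ← map_mul]
  congr 1
  apply Units.ext
  show (g : Matrix (Fin 3) (Fin 3) F) = ((g * (dGL hω d)⁻¹ : GL (Fin 3) F) : Matrix _ _ F) * (dGL hω d).val
  rw [← Units.val_mul, inv_mul_cancel_right]

end CfsgLib.ONanRec.Cand
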