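import Cfsg.Agent.Lib.ONanRec.Cand.Cover
import Cfsg.Agent.Lib.ONanRec.Cand.CoverGeom
import Cfsg.Agent.Lib.ONanRec.Cand.Model

/-!
# Normal forms of perfect central extensions of `L₃(4)` by a cyclic group of order four
-/

set_option autoImplicit false
set_option linter.unusedSectionVars false

namespace CfsgLib.ONanRec.Cand

attribute [local irreducible] CfsgLib.Schur.L34Data.ev evF evW

open CfsgLib.Schur.L34Data CfsgLib.Generation CfsgLib.PSLAut Matrix

variable {F : Type} [Field F] [Fintype F] [CharP F 2] {ω : F}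

theorem mT_evC_append (hω : ω * ω = 1 + ω) (x y : List ℕ) :
    mT ω (evC (x ++ y)) = mT ω (evC x) * mT ω (evC y) := by
  have key : ∀ u v, mT ω (Schur.L34Data.ev (u ++ v)) = mT ω (Schur.L34Data.ev u) * mT ω (Schur.L34Data.ev v) := by
    intro u v
    induction u with
    | nil => simp [Schur.L34Data.ev, mT_oneC]
    | cons i u ih => rw [List.cons_append, Schur.L34Data.ev, mT_mulT hω, ih, Schur.L34Data.ev, mT_mulT hω, mul_assoc]
  rw [evC, evC, evC, evF_eq, evF_eq, evF_eq, subC, List.flatMap_append]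
  exact key _ _

theorem mT_lsub (hω : ω * ω = 1 + ω) (A B : List ℕ) : ∀ r : List ℕ,
    mT ω (evC (lsub A B r)) = mT ω (evR A B r)
  | [] => by rw [evR, evW, evC, evF_eq, Schur.L34Data.ev.eq_def]; rfl
  | l :: r => by
    rw [show lsub A B (l :: r) = [A, invW A, B, invW B].getD l [] ++ lsub A B r from List.flatMap_cons,
      mT_evC_append hω, mT_lsub hω A B r]
    rw [show evR A B (l :: r) = fzT (evR A B r)
        (fun y => mulT ([evC A, evC (invW A), evC B, evC (invW B)].getD l oneC) y) by rw [evR, evR, evW],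
      fzT_eq, mT_mulT hω]
    congr 2
    rcases l with _ | _ | _ | _ | l <;> simp
    rw [evC, evF_eq, show subC [] = [] from rfl, Schur.L34Data.ev]

theorem evR_zero (r : List ℕ) : evR wA wB r = imR 0 r := by
  have e0 : evC wA = imT 0 0 := im_code 0 0
  have e1 : evC (invW wA) = imT 0 1 := im_code 0 1
  have e2 : evC wB = imT 0 2 := im_code 0 2
  have e3 : evC (invW wB) = imT 0 3 := im_code 0 3
  rw [evR, imR, e0, e1, e2, e3]

theorem invW_lt (w : List ℕ) : ∀ l ∈ invW w, l < 4 := by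
  intro l hl
  simp only [invW, List.mem_reverse, List.mem_map] at hl
  obtain ⟨a, -, rfl⟩ := hl
  omega

theorem lsub_lt {A B : List ℕ} (hA : ∀ l ∈ A, l < 4) (hB : ∀ l ∈ B, l < 4) (r : List ℕ) :
    ∀ l ∈ lsub A B r, l < 4 := by
  intro l hl
  simp only [lsub, List.mem_flatMap] at hl
  obtain ⟨k, -, hk⟩ := hl
  rcases k with _ | _ | _ | _ | k
  · exact hA l (by simpa using hk)
  · exact invW_lt A l (by simpa using hk)
  · exact hB l (by simpa using hk)
  · exact invW_lt B l (by simpa using hk)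
  · simp at hk

theorem cov_lt : ∀ h : Fin 2, ∀ i : Fin 6, cov h.val i.val < 4 := by decide +kernel

theorem wAB_lt : (∀ l ∈ wA, l < 4) ∧ ∀ l ∈ wB, l < 4 := im_lt 0

variable {E : Type*} [Group E]

/-- A word in lifts shifted by central powers. -/
theorem value_word (L : List ℕ → E) (z : E) (h4 : z ^ 4 = 1) (hzc : ∀ y : E, Commute z y) (hnil : L [] = 1)
    (happ : ∀ x y, L (x ++ y) = L x * L y) (hinv : ∀ w, L (invW w) = (L w)⁻¹) {A B : List ℕ} {s t : ℕ}
    (g : Fin 4 → E) (h0 : g 0 = L A * z ^ s) (h1 : g 1 = L B * z ^ t) (h2 : g 2 = z) :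
    ∀ w, (∀ l ∈ w, l < 6) → ev g w = L (lsub A B w) * z ^ (lexp s t w)
  | [], _ => by simp [ev, lsub, lexp, hnil]
  | l :: w, hw => by
    rw [ev_cons, value_word L z h4 hzc hnil happ hinv g h0 h1 h2 w fun a ha => hw a (List.mem_cons_of_mem _ ha),
      show lsub A B (l :: w) = [A, invW A, B, invW B].getD l [] ++ lsub A B w from List.flatMap_cons,
      show lexp s t (l :: w) = [s, 3 * s, t, 3 * t, 1, 3].getD l 0 + lexp s t w from List.sum_cons, happ,
      pow_add, ← mul_assoc, ← mul_assoc]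
    congr 1
    rw [mul_assoc (L ([A, invW A, B, invW B].getD l [])), ((hzc (L (lsub A B w))).pow_left _).symm.eq, ← mul_assoc]
    congr 1
    have h3 : ∀ n : ℕ, (z ^ n)⁻¹ = z ^ (3 * n) := fun n => by
      rw [inv_eq_iff_mul_eq_one, ← pow_add, show n + 3 * n = 4 * n by ring, pow_mul, h4, one_pow]
    have hl := hw l List.mem_cons_self
    interval_cases l
    · simp [h0]
    · simp [h0, hinv, _root_.mul_inv_rev, h3]
      exact ((hzc _).pow_left _).eq
    · simp [h1]
    · simp [h1, hinv, _root_.mul_inv_rev, h3]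
      exact ((hzc _).pow_left _).eq
    · simp [h2, hnil]
    · simp [h2, hnil]
      simpa using h3 1

/-- Reduction of exponents. -/
theorem pow_mod_four {z : E} (h4 : z ^ 4 = 1) (n : ℕ) : z ^ n = z ^ (n % 4) := pow_eq_pow_mod n h4

variable [Finite E]

/-- A normal form: generators over the base matrices with the relators of one of the two covers. -/
structure Frame (ω : F) (τ : E →* ProjectiveSpecialLinearGroup (Fin 3) F) (z a b : E) (h : Fin 2) : Prop where
  surj : Function.Surjective τ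
  ker : τ.ker = Subgroup.zpowers z
  ord : orderOf z = 4
  central : τ.ker ≤ Subgroup.center E
  perfect : commutator E = ⊤
  imgA : ∃ S : SpecialLinearGroup (Fin 3) F, τ a = QuotientGroup.mk S ∧
    S.1 = Matrix.of fun i j => val4 ω (baseT false false i j)
  imgB : ∃ S : SpecialLinearGroup (Fin 3) F, τ b = QuotientGroup.mk S ∧
    S.1 = Matrix.of fun i j => val4 ω (baseT true false i j)
  rels : ∀ i : Fin 6, ev ![a, b, z, 1] (rel i.val) = z ^ cov h.val i.val

theorem comm_of_ker {τ : E →* ProjectiveSpecialLinearGroup (Fin 3) F} {z : E}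
    (hker : τ.ker = Subgroup.zpowers z) (hc : τ.ker ≤ Subgroup.center E) (y : E) : Commute z y :=
  (Subgroup.mem_center_iff.1 (hc (hker ▸ Subgroup.mem_zpowers z)) y).symm

theorem exists_pow_of_ker {τ : E →* ProjectiveSpecialLinearGroup (Fin 3) F} {z : E}
    (hker : τ.ker = Subgroup.zpowers z) (hz : orderOf z = 4) {y y' : E} (h : τ y = τ y') :
    ∃ n : Fin 4, y = y' * z ^ n.val := by
  have hm : y'⁻¹ * y ∈ τ.ker := by rw [MonoidHom.mem_ker, map_mul, map_inv, h, inv_mul_cancel]
  rw [hker, Subgroup.mem_zpowers_iff] at hm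
  obtain ⟨j, hj⟩ := hm
  refine ⟨⟨(j % 4).toNat, by omega⟩, ?_⟩
  rw [show ((⟨(j % 4).toNat, by omega⟩ : Fin 4) : ℕ) = (j % 4).toNat from rfl, ← zpow_natCast,
    Int.toNat_of_nonneg (Int.emod_nonneg _ (by norm_num))]
  have e := zpow_mod_orderOf z j
  rw [hz] at e
  rw [show ((4 : ℕ) : ℤ) = 4 from rfl] at e
  rw [e, hj, mul_inv_cancel_left]

/-- Every such extension has a normal form. -/
theorem exists_frame (hF : Fintype.card F = 4) (hω : ω * ω = 1 + ω) (hb : Function.Bijective (val4 ω))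
    (τ : E →* ProjectiveSpecialLinearGroup (Fin 3) F) (hτ : Function.Surjective τ) (z : E)
    (hker : τ.ker = Subgroup.zpowers z) (hz : orderOf z = 4) (hc : τ.ker ≤ Subgroup.center E)
    (hperf : commutator E = ⊤) :
    ∃ (τ' : E →* ProjectiveSpecialLinearGroup (Fin 3) F) (z' a b : E) (h : Fin 2), Frame ω τ' z' a b h := by
  obtain ⟨L, u, v, huv, hnil, happ, hinv, hτL, hsc⟩ := exists_lift hF hω hb τ hτ z hker hz hc hperf
  obtain ⟨h, d, s, t, e, hkv⟩ := norm_cover u v huv
  have hzc := comm_of_ker hker hc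
  have h4 : z ^ 4 = 1 := hz ▸ pow_orderOf_eq_one z
  have hc4 : 4 * d.val < 12 := by omega
  obtain ⟨σ, hσ⟩ : ∃ σ : F ≃+* F, σ = RingEquiv.refl F := ⟨_, rfl⟩
  have hf : ∀ c, σ (val4 ω c) = val4 ω (frob false c) := fun c => by rw [hσ]; rfl
  set A := imA.getD (4 * d.val) [] with hA
  set B := imB.getD (4 * d.val) [] with hB
  obtain ⟨hA4, hB4⟩ : (∀ l ∈ A, l < 4) ∧ ∀ l ∈ B, l < 4 := im_lt ⟨4 * d.val, hc4⟩
  have hodd : (2 * e.val + 1).Coprime 4 := by fin_cases e <;> decide
  have hzp : Subgroup.zpowers (z ^ (2 * e.val + 1)) = Subgroup.zpowers z := by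
    refine le_antisymm (Subgroup.zpowers_le.2 (pow_mem (Subgroup.mem_zpowers z) _)) (Subgroup.zpowers_le.2 ?_)
    rw [Subgroup.mem_zpowers_iff]
    refine ⟨((2 * e.val + 1 : ℕ) : ℤ), ?_⟩
    rw [zpow_natCast, ← pow_mul, pow_mod_four h4]
    have : (2 * e.val + 1) * (2 * e.val + 1) % 4 = 1 := by fin_cases e <;> rfl
    rw [this, pow_one]
  have hord : orderOf (z ^ (2 * e.val + 1)) = 4 := by
    rw [← Nat.card_zpowers, hzp, Nat.card_zpowers, hz]
  -- the base matrices
  have hT : ∀ p : Bool, ∃ S : SpecialLinearGroup (Fin 3) F,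
      τ (L (if p then wB else wA)) = QuotientGroup.mk S ∧
        S.1 = Matrix.of fun i j => val4 ω (baseT p false i j) := by
    intro p
    obtain ⟨S, h1, h2⟩ := hτL (if p then wB else wA) (by cases p <;> [exact wAB_lt.1; exact wAB_lt.2])
    refine ⟨S, h1, h2.trans ?_⟩
    cases p
    · rw [show evC (if false = true then wB else wA) = imT 0 0 from im_code 0 0]; rfl
    · rw [show evC (if true = true then wB else wA) = imT 0 2 from im_code 0 2]; rfl
  let δ : MulAut (ProjectiveSpecialLinearGroup (Fin 3) F) := bAut hω d σ false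
  let τ' : E →* ProjectiveSpecialLinearGroup (Fin 3) F := δ.symm.toMonoidHom.comp τ
  have hker' : τ'.ker = τ.ker := by
    ext y
    simp [τ', MonoidHom.mem_ker]
  have himg : ∀ (p : Bool) (n : ℕ), ∃ S : SpecialLinearGroup (Fin 3) F,
      τ' (L (if p then B else A) * z ^ n) = QuotientGroup.mk S ∧
        S.1 = Matrix.of fun i j => val4 ω (baseT p false i j) := by
    intro p n
    obtain ⟨S, -, hS⟩ := hT p
    refine ⟨S, ?_, hS⟩
    obtain ⟨S', h1, h2⟩ := hτL (if p then B else A) (by cases p <;> [exact hA4; exact hB4])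
    have hzk : τ z = 1 := by
      have : z ∈ τ.ker := hker ▸ Subgroup.mem_zpowers z
      exact this
    show δ.symm (τ (L (if p then B else A) * z ^ n)) = _
    rw [map_mul, map_pow, hzk, one_pow, mul_one, MulEquiv.symm_apply_eq, h1]
    refine (bAut_base hω d hf false p hS ?_).symm
    rw [h2]
    cases p
    · exact congrArg (fun C : Code => m3 ω C.2.2) ((im_code ⟨4 * d.val, hc4⟩ 0).trans (by simp [cIdx]))
    · exact congrArg (fun C : Code => m3 ω C.2.2) ((im_code ⟨4 * d.val, hc4⟩ 2).trans (by simp [cIdx]))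
  refine ⟨τ', z ^ (2 * e.val + 1), L A * z ^ s.val, L B * z ^ t.val, h,
    δ.symm.surjective.comp hτ, by rw [hker', hker, hzp], hord, by rw [hker']; exact hc, hperf,
    himg false s.val, himg true t.val, fun i => ?_⟩
  have hval := value_word L z h4 hzc hnil happ hinv (A := A) (B := B)
    (![L A * z ^ s.val, L B * z ^ t.val, z, 1]) rfl rfl rfl (rel i.val)
    fun l hl => (rel_lt i l hl).trans (by norm_num)
  have hev : ev ![L A * z ^ s.val, L B * z ^ t.val, z ^ (2 * e.val + 1), 1] (rel i.val) =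
      ev ![L A * z ^ s.val, L B * z ^ t.val, z, 1] (rel i.val) := by
    refine congrArg List.prod (List.map_congr_left fun l hl => ?_)
    have := rel_lt i l hl
    interval_cases l <;> rfl
  obtain ⟨hR, hm, hn, hk⟩ := rel_scal ⟨4 * d.val, hc4⟩ i
  rw [hev, hval, hsc _ (lsub_lt hA4 hB4 _) _ _ _ hm hn hk ((mT_lsub hω A B _).trans (congrArg _ hR)),
    ← pow_add, pow_mod_four h4, ← pow_mul, pow_mod_four h4 ((2 * e.val + 1) * _)]
  congr 1
  exact hkv i

/-- The lift of a normal form. -/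
theorem Frame.lift (hF : Fintype.card F = 4) (hω : ω * ω = 1 + ω) (hb : Function.Bijective (val4 ω))
    {τ : E →* ProjectiveSpecialLinearGroup (Fin 3) F} {z a b : E} {h : Fin 2} (hf : Frame ω τ z a b h) :
    ∃ L : List ℕ → E, L [] = 1 ∧ (∀ x y, L (x ++ y) = L x * L y) ∧ (∀ w, L (invW w) = (L w)⁻¹) ∧
      (∀ w, (∀ l ∈ w, l < 4) → ∃ S : SpecialLinearGroup (Fin 3) F,
        τ (L w) = QuotientGroup.mk S ∧ S.1 = m3 ω (evC w).2.2) ∧
      (∀ w, (∀ l ∈ w, l < 4) → ∀ m n k : ℕ, m < 4 → n < 4 → k < 3 →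
        mT ω (evC w) = mT ω (tri m n k) → L w = z ^ ((base h.val).1 * m + (base h.val).2.1 * n)) ∧
      a = L wA * z ^ (base h.val).2.2.1 ∧ b = L wB * z ^ (base h.val).2.2.2 := by
  obtain ⟨L, u, v, huv, hnil, happ, hinv, hτL, hsc⟩ :=
    exists_lift hF hω hb τ hf.surj z hf.ker hf.ord hf.central hf.perfect
  have hzc := comm_of_ker hf.ker hf.central
  have h4 : z ^ 4 = 1 := hf.ord ▸ pow_orderOf_eq_one z
  have hbase : ∀ (p : Bool) (y : E), (∃ S : SpecialLinearGroup (Fin 3) F, τ y = QuotientGroup.mk S ∧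
      S.1 = Matrix.of fun i j => val4 ω (baseT p false i j)) →
      ∃ n : Fin 4, y = L (if p then wB else wA) * z ^ n.val := by
    rintro p y ⟨S, hy, hS⟩
    obtain ⟨S', h1, h2⟩ := hτL (if p then wB else wA) (by cases p <;> [exact wAB_lt.1; exact wAB_lt.2])
    refine exists_pow_of_ker hf.ker hf.ord (hy.trans ?_)
    rw [h1]
    congr 1
    refine Subtype.ext (hS.trans (Eq.trans ?_ h2.symm))
    cases p
    · rw [show evC (if false = true then wB else wA) = imT 0 0 from im_code 0 0]; rfl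
    · rw [show evC (if true = true then wB else wA) = imT 0 2 from im_code 0 2]; rfl
  obtain ⟨s, hs⟩ := hbase false a hf.imgA
  obtain ⟨t, ht⟩ := hbase true b hf.imgB
  have key : ∀ i : Fin 6, kv 0 i.val u.val v.val s.val t.val = cov h.val i.val := by
    intro i
    obtain ⟨hR, hm, hn, hk⟩ := rel_scal 0 i
    have hval := value_word L z h4 hzc hnil happ hinv (A := wA) (B := wB)
      (![a, b, z, 1]) hs ht rfl (rel i.val) fun l hl => (rel_lt i l hl).trans (by norm_num)
    rw [hf.rels i, hsc _ (lsub_lt wAB_lt.1 wAB_lt.2 _) _ _ _ hm hn hk ((mT_lsub hω wA wB _).trans (congrArg _ hR)),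
      ← pow_add, pow_eq_pow_iff_modEq, hf.ord] at hval
    have hlt : cov h.val i.val < 4 := cov_lt h i
    rw [kv]
    unfold Nat.ModEq at hval
    rw [Nat.mod_eq_of_lt hlt] at hval
    exact hval.symm
  have hb' := norm_base h u v s t huv key
  simp only [← hb']
  exact ⟨L, hnil, happ, hinv, hτL, hsc, hs, ht⟩

end CfsgLib.ONanRec.Cand
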