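import Cfsg.Agent.Lib.ONanRec.Cand.Outer
import Cfsg.Agent.Lib.Classical.SLBasic

/-!
# The centraliser of an involution of O'Nan type is one of the twelve candidates
-/

set_option autoImplicit false
set_option linter.unusedSectionVars false

namespace CfsgLib.ONanRec.Cand

open CfsgLib.Schur.L34Data CfsgLib.Generation
open scoped commutatorElement

variable {G : Type*} [Group G] [Finite G] {t : G}

/-- A nontrivial normal subgroup of the centraliser contains the square of a generator of the centre. -/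
theorem sq_mem_of_normal {C : Type*} [Group C] (M : Subgroup C) [M.Normal]
    (hout : Subgroup.centralizer (M : Set C) ≤ M) {F : Type} [Field F] [Fintype F]
    (τ : ↥M →* Matrix.ProjectiveSpecialLinearGroup (Fin 3) F) (hτ : Function.Surjective τ) (z : ↥M)
    (hker : τ.ker = Subgroup.center ↥M) (hz : τ.ker = Subgroup.zpowers z) (hord : orderOf z = 4)
    (hperf : commutator ↥M = ⊤) (K : Subgroup C) (hK : K.Normal) (hne : K ≠ ⊥) : (z : C) * z ∈ K := by
  set N := K.subgroupOf M with hN
  by_cases hbot : N = ⊥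
  · -- `K` centralises `M`
    refine absurd ((Subgroup.eq_bot_iff_forall _).2 fun k hk => ?_) hne
    have hkM : k ∈ M := hout (Subgroup.mem_centralizer_iff.2 fun m hm => by
      have h1 : m * k * m⁻¹ * k⁻¹ ∈ K := K.mul_mem (hK.conj_mem k hk m) (K.inv_mem hk)
      have h2 : m * k * m⁻¹ * k⁻¹ ∈ M := by
        rw [show m * k * m⁻¹ * k⁻¹ = m * (k * m⁻¹ * k⁻¹) by group]
        exact M.mul_mem hm ((inferInstance : M.Normal).conj_mem _ (M.inv_mem hm) k)
      have h3 : (⟨_, h2⟩ : ↥M) ∈ N := Subgroup.mem_subgroupOf.2 h1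
      rw [hbot, Subgroup.mem_bot] at h3
      have h4 := congrArg Subtype.val h3
      simp only [Subgroup.coe_one] at h4
      rw [mul_inv_eq_one, mul_inv_eq_iff_eq_mul] at h4
      exact h4)
    have : (⟨k, hkM⟩ : ↥M) ∈ N := Subgroup.mem_subgroupOf.2 hk
    rw [hbot, Subgroup.mem_bot] at this
    exact congrArg Subtype.val this
  have hNn : N.Normal := inferInstance
  have hsimple : IsSimpleGroup (Matrix.ProjectiveSpecialLinearGroup (Fin 3) F) :=
    CfsgLib.Classical.isSimpleGroup_PSL (by simp)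
  rcases hsimple.eq_bot_or_eq_top_of_normal (N.map τ) (hNn.map τ hτ) with h | h
  · -- a subgroup of the centre
    have hle : N ≤ Subgroup.zpowers z := hz ▸ (Subgroup.map_eq_bot_iff N).1 h
    obtain ⟨⟨n, hn⟩, hn0⟩ := Subgroup.ne_bot_iff_exists_ne_one.1 hbot
    have hn1 : n ≠ 1 := fun h => hn0 (Subtype.ext h)
    obtain ⟨j, hj⟩ := Subgroup.mem_zpowers_iff.1 (hle hn)
    have h4 : z ^ 4 = 1 := hord ▸ pow_orderOf_eq_one z
    have hzz : z ^ 2 ∈ N := by
      have e := zpow_mod_orderOf z j
      rw [hord, hj] at e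
      rcases (by omega : j % 4 = 0 ∨ j % 4 = 1 ∨ j % 4 = 2 ∨ j % 4 = 3) with h' | h' | h' | h' <;>
        rw [show ((4 : ℕ) : ℤ) = 4 from rfl, h'] at e
      · exact absurd (e.symm.trans (zpow_zero z)) hn1
      · rw [zpow_one] at e
        exact N.pow_mem (e ▸ hn) 2
      · have : z ^ (2 : ℕ) = n := (zpow_natCast z 2).symm.trans e
        exact this ▸ hn
      · have : z ^ (3 : ℕ) = n := (zpow_natCast z 3).symm.trans e
        have h6 := N.pow_mem (this ▸ hn) 2
        rwa [← pow_mul, show 3 * 2 = 4 + 2 from rfl, pow_add, h4, one_mul] at h6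
    have := Subgroup.mem_subgroupOf.1 hzz
    simpa [pow_two] using this
  · -- everything
    have htop : N = ⊤ := by
      rw [eq_top_iff, ← hperf, _root_.commutator_def, Subgroup.commutator_le]
      intro u _ v _
      obtain ⟨n, hn, hn'⟩ := h.ge (Subgroup.mem_top (τ u))
      have hc : n⁻¹ * u ∈ Subgroup.center ↥M := by
        rw [← hker, MonoidHom.mem_ker, map_mul, map_inv, hn', inv_mul_cancel]
      obtain ⟨c, hc', rfl⟩ : ∃ c ∈ Subgroup.center ↥M, u = n * c := ⟨_, hc, (mul_inv_cancel_left n u).symm⟩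
      have e : ⁅n * c, v⁆ = ⁅n, v⁆ := by
        rw [commutatorElement_def, commutatorElement_def, _root_.mul_inv_rev]
        have hcv := Subgroup.mem_center_iff.1 hc' v
        calc n * c * v * (c⁻¹ * n⁻¹) * v⁻¹ = n * (c * v * c⁻¹) * n⁻¹ * v⁻¹ := by group
          _ = _ := by rw [← hcv, mul_inv_cancel_right]
      rw [e, commutatorElement_def, mul_assoc, mul_assoc]
      refine N.mul_mem hn ?_
      rw [← mul_assoc]
      exact hNn.conj_mem _ (N.inv_mem hn) v
    exact Subgroup.mem_subgroupOf.1 (htop.ge (Subgroup.mem_top (z * z)))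

/-- The centraliser of the involution is one of the candidates. -/
theorem exists_centralizer (t : G) (ht : orderOf t = 2) (M : Subgroup (Subgroup.centralizer ({t} : Set G)))
    [M.Normal] (hM : M.index = 2)
    (hout : Subgroup.centralizer (M : Set (Subgroup.centralizer ({t} : Set G))) ≤ M)
    (hZc : IsCyclic (Subgroup.center M)) (hZ4 : Nat.card (Subgroup.center M) = 4) (hperf : commutator M = ⊤)
    (F : Type) [Field F] [Fintype F] (hF : Fintype.card F = 4)
    (e : M ⧸ Subgroup.center M ≃* Matrix.ProjectiveSpecialLinearGroup (Fin 3) F) :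
    ∃ (k : Fin 12) (g : Fin 4 → G), Centralizer k t g := by
  obtain ⟨hchar, ω, hω, hb⟩ := CfsgLib.Schur.L34Data.exists_omega hF
  let τ0 : ↥M →* Matrix.ProjectiveSpecialLinearGroup (Fin 3) F :=
    e.toMonoidHom.comp (QuotientGroup.mk' (Subgroup.center ↥M))
  have hker0 : τ0.ker = Subgroup.center ↥M := by
    ext y
    simp [τ0, MonoidHom.mem_ker]
  obtain ⟨z0, hz0⟩ := hZc.exists_generator
  have hzk : τ0.ker = Subgroup.zpowers (z0 : ↥M) := by
    rw [hker0]
    refine le_antisymm (fun y hy => ?_) (Subgroup.zpowers_le.2 z0.2)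
    obtain ⟨j, hj⟩ := Subgroup.mem_zpowers_iff.1 (hz0 ⟨y, hy⟩)
    exact Subgroup.mem_zpowers_iff.2 ⟨j, by simpa using congrArg Subtype.val hj⟩
  have hord0 : orderOf (z0 : ↥M) = 4 := by
    rw [← Nat.card_zpowers, ← hzk, hker0, hZ4]
  obtain ⟨τ, z, a, b, h, hf⟩ := exists_frame hF hω hb τ0 (e.surjective.comp (QuotientGroup.mk'_surjective _))
    (z0 : ↥M) hzk hord0 (hker0 ▸ le_rfl) hperf
  have hcen : τ.ker = Subgroup.center ↥M := by
    refine le_antisymm hf.central fun y hy => ?_
    rw [MonoidHom.mem_ker]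
    have h1 : τ y ∈ Subgroup.center (Matrix.ProjectiveSpecialLinearGroup (Fin 3) F) :=
      Subgroup.mem_center_iff.2 fun v => by
        obtain ⟨u, rfl⟩ := hf.surj v
        rw [← map_mul, ← map_mul, Subgroup.mem_center_iff.1 hy u]
    have hs : IsSimpleGroup (Matrix.ProjectiveSpecialLinearGroup (Fin 3) F) :=
      CfsgLib.Classical.isSimpleGroup_PSL (by simp)
    rcases hs.eq_bot_or_eq_top_of_normal _ (inferInstance : (Subgroup.center _).Normal) with hbot | htop
    · rw [hbot, Subgroup.mem_bot] at h1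
      exact h1
    · exfalso
      have hp := CfsgLib.Schur.L34.perfect_PSL34 hF
      have : commutator (Matrix.ProjectiveSpecialLinearGroup (Fin 3) F) = ⊥ := by
        rw [_root_.commutator_def, ← le_bot_iff, Subgroup.commutator_le]
        intro u _ v _
        rw [Subgroup.mem_bot, commutatorElement_eq_one_iff_mul_comm]
        exact Subgroup.mem_center_iff.1 (htop.ge (Subgroup.mem_top v)) u
      haveI hnt := hs.toNontrivial
      exact bot_ne_top (this.symm.trans hp)
  obtain ⟨k, g, hgen, hgz, hrel⟩ := exists_candidate hF hω hb hM hout hf hcen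
  -- the involution
  have htC : t ∈ (Subgroup.centralizer ({t} : Set G)) := Subgroup.mem_centralizer_singleton_iff.2 rfl
  have htc : ∀ y : ↥(Subgroup.centralizer ({t} : Set G)), (⟨t, htC⟩ : ↥(Subgroup.centralizer ({t} : Set G))) * y = y * ⟨t, htC⟩ := fun y =>
    Subtype.ext (Subgroup.mem_centralizer_singleton_iff.1 y.2).symm
  have htM : (⟨t, htC⟩ : ↥(Subgroup.centralizer ({t} : Set G))) ∈ M := hout (Subgroup.mem_centralizer_iff.2 fun m _ => (htc m).symm)
  have ht2 : t * t = 1 := by
    have := pow_orderOf_eq_one t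
    rwa [ht, pow_two] at this
  have h4 : z ^ 4 = 1 := hf.ord ▸ pow_orderOf_eq_one z
  have hzt : (⟨⟨t, htC⟩, htM⟩ : ↥M) = z * z := by
    have hc : (⟨⟨t, htC⟩, htM⟩ : ↥M) ∈ τ.ker := by
      rw [hcen]
      exact Subgroup.mem_center_iff.2 fun y => Subtype.ext (htc y).symm
    obtain ⟨n, hn⟩ := exists_pow_of_ker hf.ker hf.ord (show τ ⟨⟨t, htC⟩, htM⟩ = τ 1 by rw [map_one]; exact hc)
    rw [one_mul] at hn
    have hsq : z ^ (n.val * 2) = 1 := by
      rw [pow_mul, ← hn, pow_two]
      exact Subtype.ext (Subtype.ext ht2)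
    have hd := orderOf_dvd_of_pow_eq_one hsq
    rw [hf.ord] at hd
    have hn0 : n.val ≠ 0 := fun h0 => by
      rw [h0, pow_zero] at hn
      have : t = 1 := congrArg (fun x : ↥M => ((x : ↥(Subgroup.centralizer ({t} : Set G))) : G)) hn
      rw [this, orderOf_one] at ht
      omega
    have hn2 : n.val = 2 := by
      have := n.isLt
      omega
    rw [hn, hn2, pow_two]
  -- the cardinality
  have hcard : Nat.card ↥(Subgroup.centralizer ({t} : Set G)) = 161280 := by
    have h1 := M.card_mul_index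
    have h2 := τ.ker.card_mul_index
    rw [Subgroup.index_ker, MonoidHom.range_eq_top_of_surjective τ hf.surj, Subgroup.card_top,
      CfsgLib.Schur.L34.card_PSL34 hF, hf.ker, Nat.card_zpowers, hf.ord] at h2
    rw [hM, ← h2] at h1
    exact h1.symm
  let g' : Fin 4 → G := fun i => ((g i : ↥(Subgroup.centralizer ({t} : Set G))) : G)
  refine ⟨k, g', centralizer_of_rels k g' ?_ ?_ (fun w hw => ?_) hcard fun K hK hne htK => ?_⟩
  · have := congrArg (Subgroup.map (Subgroup.centralizer ({t} : Set G)).subtype) hgen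
    rw [MonoidHom.map_closure, ← MonoidHom.range_eq_map, Subgroup.range_subtype, ← Set.range_comp] at this
    exact this
  · have : ((g 2 : ↥(Subgroup.centralizer ({t} : Set G))) * g 2 : ↥(Subgroup.centralizer ({t} : Set G))) = ⟨t, htC⟩ := by
      rw [hgz, ← Subgroup.coe_mul, ← hzt]
    exact congrArg Subtype.val this
  · rw [show ev g' w = ((ev g w : ↥(Subgroup.centralizer ({t} : Set G))) : G) from (map_ev g (Subgroup.centralizer ({t} : Set G)).subtype w).symm, hrel w hw, Subgroup.coe_one]
  · have := sq_mem_of_normal M hout τ hf.surj z hcen hf.ker hf.ord hperf K hK hne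
    rw [← Subgroup.coe_mul, ← hzt] at this
    exact this

end CfsgLib.ONanRec.Cand
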