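import Cfsg.Agent.Lib.ONanRec.Cand.CoverFrame

/-!
# The outer element and the relators of a candidate
-/

set_option autoImplicit false
set_option linter.unusedSectionVars false
set_option maxHeartbeats 1000000

namespace CfsgLib.ONanRec.Cand

attribute [local irreducible] CfsgLib.Schur.L34Data.ev evF evW

open CfsgLib.Schur.L34Data CfsgLib.Generation CfsgLib.PSLAut Matrix

variable {F : Type} [Field F] [Fintype F] [CharP F 2] {ω : F}

theorem bAut_zero_sq (hω : ω * ω = 1 + ω) (hb : Function.Bijective (val4 ω)) (σ : F ≃+* F) (e : Bool) :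
    bAut hω 0 σ e * bAut hω 0 σ e = 1 := by
  have h0 : dGL hω 0 = 1 := Units.ext (by
    show Matrix.diagonal (fun i => val4 ω (dEnt 0 i)) = 1
    rw [← diagonal_one]
    refine congrArg _ (funext fun i => ?_)
    fin_cases i <;> simp [dEnt, val4])
  have hσ := frob_sq hω hb σ
  simp only [bAut, h0, map_one, one_mul]
  cases e
  · simpa using hσ
  · simp only [if_true]
    rw [mul_assoc, ← mul_assoc (iotaAut : MulAut (ProjectiveSpecialLinearGroup (Fin 3) F)), iotaAut_mul_fieldAut,
      mul_assoc (fieldAut σ), iotaAut_mul_self, mul_one, hσ]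

variable {E : Type*} [Group E] [Finite E] {τ : E →* ProjectiveSpecialLinearGroup (Fin 3) F} {z a b : E} {h : Fin 2}

theorem Frame.closure_eq (hF : Fintype.card F = 4) (hω : ω * ω = 1 + ω) (hb : Function.Bijective (val4 ω))
    (hf : Frame ω τ z a b h) : Subgroup.closure ({a, b, z} : Set E) = ⊤ := by
  obtain ⟨L, hnil, happ, hinv, hτL, -, ha, hb'⟩ := hf.lift hF hω hb
  set N := Subgroup.closure ({a, b, z} : Set E) with hN
  have hzN : z ∈ N := Subgroup.subset_closure (by simp)
  have hA : L wA ∈ N := by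
    have : a ∈ N := Subgroup.subset_closure (by simp)
    rw [ha] at this
    exact (N.mul_mem_cancel_right (N.pow_mem hzN _)).1 this
  have hB : L wB ∈ N := by
    have : b ∈ N := Subgroup.subset_closure (by simp)
    rw [hb'] at this
    exact (N.mul_mem_cancel_right (N.pow_mem hzN _)).1 this
  have hw : ∀ w, L (lsub wA wB w) ∈ N := by
    intro w
    induction w with
    | nil => simp [lsub, hnil]
    | cons l w ih =>
      rw [show lsub wA wB (l :: w) = [wA, invW wA, wB, invW wB].getD l [] ++ lsub wA wB w from List.flatMap_cons,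
        happ]
      refine N.mul_mem ?_ ih
      rcases l with _ | _ | _ | _ | l <;> simp [hnil, hA, hB, hinv]
  have hcomap : (N.map τ).comap (QuotientGroup.mk' (Subgroup.center (SpecialLinearGroup (Fin 3) F))) = ⊤ := by
    refine mem_of_transvecs hω hb _ (fun c hc => ?_) fun i => ?_
    · rw [Subgroup.mem_comap, show QuotientGroup.mk' (Subgroup.center (SpecialLinearGroup (Fin 3) F)) c = 1 from
        (QuotientGroup.eq_one_iff c).2 hc]
      exact one_mem _
    · obtain ⟨r, hr⟩ := gen_spec i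
      obtain ⟨S, h1, h2⟩ := hτL _ (lsub_lt wAB_lt.1 wAB_lt.2 (genW.getD i.val []))
      refine ⟨_, hw (genW.getD i.val []), ?_⟩
      rw [h1]
      refine mk_eq_of_smul hω r fun j l => ?_
      have e' : mT ω (evC (lsub wA wB (genW.getD i.val []))) = mT ω (imR 0 (genW.getD i.val [])) := by
        rw [mT_lsub hω, evR_zero]
      have e : m3 ω (evC (lsub wA wB (genW.getD i.val []))).2.2 = m3 ω (imR 0 (genW.getD i.val [])).2.2 :=
        congrArg (fun x : Schur.L34Data.M F => x.2.2) e' 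
      rw [h2, e]
      show val4 ω (t3 (imR 0 (genW.getD i.val [])).2.2 j l) = _ * val4 ω (t3 (letter i.val).2.2 j l)
      rw [hr, val4_mul hω]
  rw [eq_top_iff]
  intro y _
  obtain ⟨S, hS⟩ := QuotientGroup.mk'_surjective _ (τ y)
  obtain ⟨n, hn, hn'⟩ := hcomap.ge (Subgroup.mem_top S)
  obtain ⟨k, hk⟩ := exists_pow_of_ker hf.ker hf.ord (hn'.trans hS).symm
  rw [hk]
  exact N.mul_mem hn (N.pow_mem hzN _)

variable {C : Type*} [Group C] [Finite C] {M : Subgroup C} [M.Normal]
  {τM : ↥M →* ProjectiveSpecialLinearGroup (Fin 3) F} {zM aM bM : ↥M}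

/-- An element outside induces, after an inner correction, a standard automorphism. -/
theorem exists_std (hω : ω * ω = 1 + ω) (hb : Function.Bijective (val4 ω))
    (hsurj : Function.Surjective τM) (hcen : τM.ker = Subgroup.center ↥M) {x : C} (hx : x ∉ M) :
    ∃ y : C, y ∉ M ∧ ∃ (d : Fin 3) (σ : F ≃+* F) (e : Bool),
      ∀ w : ↥M, τM (MulAut.conjNormal y w) = bAut hω d σ e (τM w) := by
  let γ : MulAut ↥M := MulAut.conjNormal x
  have hmap : τM.ker.map γ.toMonoidHom = τM.ker := by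
    rw [hcen]
    ext y
    rw [Subgroup.mem_map_equiv, Subgroup.mem_center_iff, Subgroup.mem_center_iff]
    refine ⟨fun h g => ?_, fun h g => ?_⟩
    · have e := congrArg γ (h (γ.symm g))
      simpa using e
    · apply γ.injective
      simpa using h (γ g)
  let ψ := QuotientGroup.quotientKerEquivOfSurjective τM hsurj
  let α : MulAut (ProjectiveSpecialLinearGroup (Fin 3) F) :=
    ψ.symm.trans ((QuotientGroup.congr τM.ker τM.ker γ hmap).trans ψ)
  have hα : ∀ w, α (τM w) = τM (γ w) := by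
    intro w
    have : ψ.symm (τM w) = QuotientGroup.mk w := by rw [MulEquiv.symm_apply_eq]; rfl
    show ψ (QuotientGroup.congr τM.ker τM.ker γ hmap (ψ.symm (τM w))) = _
    rw [this]
    rfl
  obtain ⟨g, σ, e, hge⟩ : ∃ (g : GL (Fin 3) F) (σ : F ≃+* F) (e : Bool),
      α = conjAut g * fieldAut σ * (if e then iotaAut else 1) := by
    obtain ⟨g, σ, h | ⟨-, h⟩⟩ := aut_classification (by norm_num) α
    · exact ⟨g, σ, false, by simp [h]⟩
    · exact ⟨g, σ, true, by simp [h]⟩
  obtain ⟨d, s, hg⟩ := exists_diag hω hb g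
  have hαb : α = MulAut.conj (QuotientGroup.mk s : ProjectiveSpecialLinearGroup (Fin 3) F) * bAut hω d σ e := by
    rw [hge, hg, bAut]
    simp only [mul_assoc]
  obtain ⟨m, hm⟩ := hsurj (QuotientGroup.mk s)
  refine ⟨(m : C)⁻¹ * x, fun hy => hx ?_, d, σ, e, fun w => ?_⟩
  · simpa using M.mul_mem m.2 hy
  · have e1 : MulAut.conjNormal ((m : C)⁻¹ * x) w = m⁻¹ * γ w * m := by
      apply Subtype.ext
      simp [γ, MulAut.conjNormal_apply, mul_assoc]
    rw [e1, map_mul, map_mul, map_inv, ← hα, hαb, hm, MulAut.mul_apply, MulAut.conj_apply]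
    group

theorem ev_congr {G : Type*} [Group G] {g g' : Fin 4 → G} {w : List ℕ} (hw : ∀ l ∈ w, l < 6)
    (h0 : g 0 = g' 0) (h1 : g 1 = g' 1) (h2 : g 2 = g' 2) : ev g w = ev g' w := by
  refine congrArg List.prod (List.map_congr_left fun l hl => ?_)
  have := hw l hl
  interval_cases l <;> simp [h0, h1, h2]

/-- The relators of a candidate. -/
theorem exists_candidate (hF : Fintype.card F = 4) (hω : ω * ω = 1 + ω) (hb : Function.Bijective (val4 ω))
    (hM : M.index = 2) (hout : Subgroup.centralizer (M : Set C) ≤ M) (hf : Frame ω τM zM aM bM h)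
    (hcen : τM.ker = Subgroup.center ↥M) :
    ∃ (k : Fin 12) (g : Fin 4 → C), Subgroup.closure (Set.range g) = ⊤ ∧ g 2 = (zM : C) ∧
      ∀ w ∈ candRels k.val, ev g w = 1 := by
  obtain ⟨x, hx⟩ : ∃ x : C, x ∉ M := by
    by_contra hall
    push Not at hall
    rw [Subgroup.index_eq_one.2 (eq_top_iff.2 fun x _ => hall x)] at hM
    omega
  obtain ⟨y, hy, d, σ, e, hstd⟩ := exists_std hω hb hf.surj hcen hx
  obtain ⟨f, hfr⟩ := exists_frob hω hb σ
  obtain ⟨L, hnil, happ, hinv, hτL, hsc, ha, hb'⟩ := hf.lift hF hω hb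
  have hzc := comm_of_ker hf.ker hf.central
  have h4 : zM ^ 4 = 1 := hf.ord ▸ pow_orderOf_eq_one zM
  set γ : MulAut ↥M := MulAut.conjNormal y with hγ
  set c := cIdx d.val f e with hc
  have hc12 : c < 12 := by
    have := d.isLt
    simp only [hc, cIdx]
    split_ifs <;> omega
  obtain ⟨hA4, hB4⟩ : (∀ l ∈ imA.getD c [], l < 4) ∧ ∀ l ∈ imB.getD c [], l < 4 := im_lt ⟨c, hc12⟩
  -- the images of the generators
  have himg : ∀ (p : Bool) (v : ↥M), (∃ S : SpecialLinearGroup (Fin 3) F, τM v = QuotientGroup.mk S ∧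
      S.1 = Matrix.of fun i j => val4 ω (baseT p false i j)) →
      ∃ n : Fin 4, γ v = L (if p then imB.getD c [] else imA.getD c []) * zM ^ n.val := by
    rintro p v ⟨S, hv, hS⟩
    obtain ⟨S', h1, h2⟩ := hτL (if p then imB.getD c [] else imA.getD c []) (by cases p <;> [exact hA4; exact hB4])
    refine exists_pow_of_ker hf.ker hf.ord ?_
    rw [hγ, hstd, hv, h1]
    refine bAut_base hω d hfr e p hS (h2.trans ?_)
    cases p
    · exact congrArg (fun C : Code => m3 ω C.2.2) (im_code ⟨c, hc12⟩ 0)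
    · exact congrArg (fun C : Code => m3 ω C.2.2) (im_code ⟨c, hc12⟩ 2)
  obtain ⟨i, hi⟩ : ∃ n : Fin 4, γ aM = L (imA.getD c []) * zM ^ n.val := himg false aM hf.imgA
  obtain ⟨j, hj⟩ : ∃ n : Fin 4, γ bM = L (imB.getD c []) * zM ^ n.val := himg true bM hf.imgB
  obtain ⟨sg, hsg⟩ : ∃ sg : Fin 2, γ zM = zM ^ (2 * sg.val + 1) := by
    have hz' : γ zM ∈ τM.ker := by
      rw [hcen, Subgroup.mem_center_iff]
      intro u
      apply γ.symm.injective
      rw [map_mul, map_mul, MulEquiv.symm_apply_apply]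
      exact (hzc _).symm.eq
    have hone : τM (γ zM) = τM 1 := by rw [map_one]; exact hz'
    obtain ⟨n, hn⟩ := exists_pow_of_ker hf.ker hf.ord hone
    rw [one_mul] at hn
    have ho : orderOf (zM ^ n.val) = 4 := by rw [← hn, MulEquiv.orderOf_eq, hf.ord]
    rw [hn]
    fin_cases n
    · simp at ho
    · exact ⟨0, rfl⟩
    · rw [orderOf_pow, hf.ord] at ho
      norm_num at ho
    · exact ⟨1, rfl⟩
  have hrow : (c, 2 * sg.val + 1, i.val, j.val) ∈ outerTab h.val := by
    refine norm_outer h ⟨c, hc12⟩ sg i j fun r => ?_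
    obtain ⟨hR, hm, hn, hk⟩ := rel_scal ⟨c, hc12⟩ r
    have hlt : ∀ l ∈ rel r.val, l < 6 := fun l hl => (rel_lt r l hl).trans (by norm_num)
    have hval := value_word L zM h4 hzc hnil happ hinv (A := imA.getD c []) (B := imB.getD c [])
      (![γ aM, γ bM, zM, 1]) hi hj rfl (rel r.val) hlt
    have hrl := congrArg γ (hf.rels r)
    rw [← MulEquiv.coe_toMonoidHom, map_ev, MulEquiv.coe_toMonoidHom, map_pow, hsg, ← pow_mul] at hrl
    have e1 : ev (fun k => γ (![aM, bM, zM, 1] k)) (rel r.val) = ev ![γ aM, γ bM, zM, 1] (rel r.val) := by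
      refine congrArg List.prod (List.map_congr_left fun l hl => ?_)
      have := rel_lt r l hl
      interval_cases l <;> simp
    rw [e1, hval, hsc _ (lsub_lt hA4 hB4 _) _ _ _ hm hn hk ((mT_lsub hω _ _ _).trans (congrArg _ hR)),
      ← pow_add, pow_eq_pow_iff_modEq, hf.ord] at hrl
    exact hrl
  have hctop := hf.closure_eq hF hω hb
  have hgenC : ∀ v : C, v * (aM : C) = aM * v → v * (bM : C) = bM * v → v * (zM : C) = zM * v →
      v ∈ Subgroup.centralizer (M : Set C) := by
    intro v va vb vz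
    refine Subgroup.mem_centralizer_iff.2 fun w hw => ?_
    have : (⟨w, hw⟩ : ↥M) ∈ (Subgroup.centralizer ({v} : Set C)).comap M.subtype := by
      have hle : Subgroup.closure ({aM, bM, zM} : Set ↥M) ≤ (Subgroup.centralizer ({v} : Set C)).comap M.subtype :=
        (Subgroup.closure_le _).2 (by
          rintro u (rfl | rfl | rfl) <;>
            simp only [SetLike.mem_coe, Subgroup.mem_comap, Subgroup.coe_subtype, Subgroup.mem_centralizer_singleton_iff]
          exacts [va.symm, vb.symm, vz.symm])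
      exact hle (hctop.ge (Subgroup.mem_top _))
    exact Subgroup.mem_centralizer_singleton_iff.1 this
  have hconj : ∀ w : ↥M, ((γ w : ↥M) : C) = y * w * y⁻¹ := fun w => MulAut.conjNormal_apply y w
  have hc0 : c ≠ 0 := by
    intro h0
    obtain ⟨hrow', hwA, hwB⟩ := outer_id h _ hrow h0
    simp only [Prod.mk.injEq] at hrow'
    obtain ⟨-, hs1, hsi, hsj⟩ := hrow'
    rw [h0, hwA, hsi, ← ha] at hi
    rw [h0, hwB, hsj, ← hb'] at hj
    rw [hs1, pow_one] at hsg
    refine hy (hout (hgenC y ?_ ?_ ?_)) <;> rw [← mul_inv_eq_iff_eq_mul, ← hconj]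
    exacts [congrArg _ hi, congrArg _ hj, congrArg _ hsg]
  have hc4 := (outer_cls h _ hrow).1
  obtain rfl : d = 0 := by
    apply Fin.ext
    simp only [hc, cIdx] at hc4
    show d.val = 0
    split_ifs at hc4 <;> omega
  -- the square
  have hyy : y * y ∈ M := Subgroup.mul_self_mem_of_index_two hM y
  set qy : ↥M := ⟨y * y, hyy⟩
  have hq : qy ∈ Subgroup.center ↥M := by
    have hk : ∀ w : ↥M, qy * w * qy⁻¹ * w⁻¹ ∈ Subgroup.center ↥M := by
      intro w
      rw [← hcen, MonoidHom.mem_ker]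
      have e1 : qy * w * qy⁻¹ = γ (γ w) := Subtype.ext (by
        rw [hconj, hconj]
        simp [qy, mul_assoc])
      rw [e1, map_mul, map_inv, hγ, hstd, hstd, ← MulAut.mul_apply, bAut_zero_sq hω hb, MulAut.one_apply,
        mul_inv_cancel]
    let φ : ↥M →* ↥(Subgroup.center ↥M) := MonoidHom.mk' (fun w => ⟨qy * w * qy⁻¹ * w⁻¹, hk w⟩) fun u w =>
      Subtype.ext (by
        show qy * (u * w) * qy⁻¹ * (u * w)⁻¹ = qy * u * qy⁻¹ * u⁻¹ * (qy * w * qy⁻¹ * w⁻¹)
        calc qy * (u * w) * qy⁻¹ * (u * w)⁻¹ = qy * u * qy⁻¹ * (qy * w * qy⁻¹ * w⁻¹) * u⁻¹ := by group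
          _ = qy * u * qy⁻¹ * (u⁻¹ * (qy * w * qy⁻¹ * w⁻¹)) := by
            rw [mul_assoc (qy * u * qy⁻¹), Subgroup.mem_center_iff.1 (hk w) u⁻¹]
          _ = _ := by group)
    have hφ : commutator ↥M ≤ φ.ker := by
      rw [_root_.commutator_def, Subgroup.commutator_le]
      intro u _ v _
      rw [MonoidHom.mem_ker, map_commutatorElement, commutatorElement_eq_one_iff_mul_comm]
      exact Subtype.ext (Subgroup.mem_center_iff.1 (φ v).2 _)
    refine Subgroup.mem_center_iff.2 fun w => ?_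
    have h1 : qy * w * qy⁻¹ * w⁻¹ = 1 := congrArg Subtype.val (hφ (hf.perfect.ge (Subgroup.mem_top w)))
    rw [mul_inv_eq_one, mul_inv_eq_iff_eq_mul] at h1
    exact h1.symm
  obtain ⟨q0, hq0⟩ : ∃ n : Fin 4, qy = zM ^ n.val := by
    rw [← hcen, MonoidHom.mem_ker] at hq
    obtain ⟨n, hn⟩ := exists_pow_of_ker hf.ker hf.ord (show τM qy = τM 1 by rw [hq, map_one])
    exact ⟨n, by rw [hn, one_mul]⟩
  -- the choice of the outer element
  have hfix : (2 * sg.val + 1) * q0.val % 4 = q0.val := by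
    have e1 : γ qy = qy := Subtype.ext (by rw [hconj]; simp [qy, mul_assoc])
    rw [hq0, map_pow, hsg, ← pow_mul, pow_eq_pow_iff_modEq, hf.ord] at e1
    unfold Nat.ModEq at e1
    rwa [Nat.mod_eq_of_lt q0.isLt] at e1
  obtain ⟨n, bb, hbb, hq'⟩ : ∃ (n : ℕ) (bb : Fin 2), (sg.val = 1 → n = 0) ∧
      (q0.val + 2 * n) % 4 = if 2 * sg.val + 1 = 3 then 2 * bb.val else bb.val := by
    fin_cases sg
    · refine ⟨q0.val / 2, ⟨q0.val % 2, by omega⟩, by simp, ?_⟩
      simp only [Nat.mul_zero, Nat.zero_add, show ¬ (1 : ℕ) = 3 by norm_num, if_false]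
      omega
    · simp only at hfix
      refine ⟨0, ⟨q0.val / 2, by omega⟩, fun _ => rfl, ?_⟩
      simp only [Nat.mul_one, if_true, Nat.mul_zero, Nat.add_zero]
      omega
  set y' : C := y * (zM : C) ^ n
  have hy' : ∀ w : ↥M, ((γ w : ↥M) : C) = y' * w * y'⁻¹ := fun w => by
    rw [hconj]
    have := congrArg Subtype.val ((hzc w).pow_left n).eq
    simp only [Subgroup.coe_mul, SubmonoidClass.coe_pow] at this
    simp only [y', _root_.mul_inv_rev]
    rw [show y * (zM : C) ^ n * w * (((zM : C) ^ n)⁻¹ * y⁻¹) = y * ((zM : C) ^ n * w) * ((zM : C) ^ n)⁻¹ * y⁻¹ by group,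
      this]
    group
  have hyy' : y' * y' = ((zM ^ (q0.val + 2 * n) : ↥M) : C) := by
    have e1 : (zM : C) ^ n * y = y * ((γ.symm (zM ^ n) : ↥M) : C) := by
      have := hconj (γ.symm (zM ^ n))
      rw [MulEquiv.apply_symm_apply] at this
      rw [← SubmonoidClass.coe_pow, this]
      group
    have e2 : γ.symm (zM ^ n) = zM ^ n := by
      rw [MulEquiv.symm_apply_eq, map_pow, hsg, ← pow_mul]
      rcases Fin.exists_fin_two.1 ⟨sg, rfl⟩ with hs | hs <;> subst hs
      · simp
      · rw [hbb rfl]; simp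
    rw [e2, SubmonoidClass.coe_pow] at e1
    have e3 : y * y = (zM : C) ^ q0.val := by
      have := congrArg Subtype.val hq0
      simpa [qy] using this
    calc y' * y' = y * ((zM : C) ^ n * y) * (zM : C) ^ n := by simp only [y']; group
      _ = y * y * ((zM : C) ^ n * (zM : C) ^ n) := by rw [e1]; group
      _ = _ := by rw [e3, ← pow_add, ← pow_add, SubmonoidClass.coe_pow, two_mul]
  -- the candidate
  refine ⟨kIdx h.val c bb.val, ![(aM : C), bM, zM, y'], ?_, rfl, ?_⟩
  · rw [eq_top_iff]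
    set K := Subgroup.closure (Set.range ![(aM : C), bM, zM, y'])
    have hMK : M ≤ K := by
      intro w hw
      have hle : Subgroup.closure ({aM, bM, zM} : Set ↥M) ≤ K.comap M.subtype :=
        (Subgroup.closure_le _).2 (by
          rintro u (rfl | rfl | rfl)
          exacts [Subgroup.subset_closure ⟨0, rfl⟩, Subgroup.subset_closure ⟨1, rfl⟩, Subgroup.subset_closure ⟨2, rfl⟩])
      exact hle (hctop.ge (Subgroup.mem_top (⟨w, hw⟩ : ↥M)))
    have hy'M : y' ∉ M := fun h' => hy ((M.mul_mem_cancel_right (M.pow_mem zM.2 n)).1 h')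
    have hy'K : y' ∈ K := Subgroup.subset_closure ⟨3, rfl⟩
    intro v _
    by_cases hv : v ∈ M
    · exact hMK hv
    · have : y'⁻¹ * v ∈ M := (Subgroup.mul_mem_iff_of_index_two hM).2 (by simp [hv, hy'M])
      simpa using K.mul_mem hy'K (hMK this)
  · have hck := cand_ok h _ hrow hc0 bb
    obtain ⟨hspec, hlA, hlB⟩ := candData_spec (kIdx h.val c bb.val)
    simp only [candOk, Bool.and_eq_true, decide_eq_true_eq, Nat.beq_eq] at hck
    obtain ⟨⟨⟨⟨hcov, hsgk⟩, hqk⟩, hAk⟩, hBk⟩ := hck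
    set D := candData (kIdx h.val c bb.val).val
    set g : Fin 4 → C := ![(aM : C), bM, zM, y']
    let g0 : Fin 4 → ↥M := ![aM, bM, zM, 1]
    have hlow : ∀ w, (∀ l ∈ w, l < 6) → ev g w = ((ev g0 w : ↥M) : C) := fun w hw => by
      rw [← Subgroup.coe_subtype, map_ev]
      exact ev_congr hw rfl rfl rfl
    have hz5 : ∀ m, ev g0 (List.replicate m 5) = (zM ^ m)⁻¹ := fun m => by
      simp [ev, g0, List.map_replicate, List.prod_replicate]
    have hrep : ∀ m, ∀ l ∈ List.replicate m 5, l < 6 := fun m l hl => by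
      rw [List.eq_of_mem_replicate hl]; norm_num
    have himgrel : ∀ (p e0 : ℕ) (W A : List ℕ) (v : ↥M), (∀ l ∈ W, l < 4) → (∀ l ∈ A, l < 6) →
        evC W = imT c p → γ v = L W * zM ^ e0 → imgOk h.val c p e0 A = true →
        y' * (v : C) * y'⁻¹ * ev g A = 1 := by
      intro p e0 W A v hW hA hWT hv hok
      rw [← hy', hlow A hA, ← Subgroup.coe_mul, ← Subgroup.coe_one]
      refine congrArg Subtype.val ?_
      simp only [imgOk, fzT_eq, Bool.and_eq_true, decide_eq_true_eq, Nat.beq_eq, Nat.blt_eq] at hok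
      obtain ⟨⟨⟨⟨hC, hk3⟩, hm⟩, hn⟩, hexp⟩ := hok
      have hval := value_word L zM h4 hzc hnil happ hinv (A := wA) (B := wB) g0 ha hb' rfl A hA
      rw [hv, hval, mul_assoc, ← mul_assoc (zM ^ e0), ((hzc _).pow_left e0).eq, ← mul_assoc, ← mul_assoc, ← happ,
        mul_assoc, ← pow_add]
      have hlt : ∀ l ∈ W ++ lsub wA wB A, l < 4 := fun l hl => (List.mem_append.1 hl).elim (hW l)
        (lsub_lt wAB_lt.1 wAB_lt.2 A l)
      rw [hsc _ hlt _ _ _ hm hn hk3 (by
        rw [mT_evC_append hω, mT_lsub hω, evR_zero, hWT, ← mT_mulT hω]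
        exact congrArg _ hC), ← pow_add, pow_mod_four h4, ← add_assoc, hexp, pow_zero]
    intro w hw
    rw [hspec] at hw
    simp only [shape, List.mem_append, List.mem_cons, List.not_mem_nil, or_false, List.mem_map, List.mem_range] at hw
    rcases hw with ((hw | hw | hw) | ⟨r, hr, hw⟩) | hw | hw | hw | hw
    · subst hw
      rw [hlow _ (by simp), ← Subgroup.coe_one]
      refine congrArg Subtype.val ?_
      simp [ev, g0]
      simpa [pow_succ, mul_assoc] using h4
    · subst hw
      rw [hlow _ (by simp), ← Subgroup.coe_one]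
      refine congrArg Subtype.val ?_
      simp [ev, g0]
      rw [← mul_assoc aM, ← ((hzc aM).inv_left).eq]
      group
    · subst hw
      rw [hlow _ (by simp), ← Subgroup.coe_one]
      refine congrArg Subtype.val ?_
      simp [ev, g0]
      rw [← mul_assoc bM, ← ((hzc bM).inv_left).eq]
      group
    · subst hw
      rw [rel_eq ⟨r, hr⟩, hlow _ (fun l hl => (List.mem_append.1 hl).elim
        (fun hl => (rel_lt ⟨r, hr⟩ l hl).trans (by norm_num)) (hrep _ l)), ev_append, hz5, hf.rels ⟨r, hr⟩,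
        show D.1.getD r 0 = cov h.val r by rw [hcov]; rfl, mul_inv_cancel, Subgroup.coe_one]
    · subst hw
      rw [ev_append, show ev g [6, 0, 7] = y' * (aM : C) * y'⁻¹ by simp [ev, g, mul_assoc]]
      exact himgrel 0 i.val _ _ aM hA4 hlA (im_code ⟨c, hc12⟩ 0) hi hAk
    · subst hw
      rw [ev_append, show ev g [6, 2, 7] = y' * (bM : C) * y'⁻¹ by simp [ev, g, mul_assoc]]
      exact himgrel 2 j.val _ _ bM hB4 hlB (im_code ⟨c, hc12⟩ 2) hj hBk
    · subst hw
      rw [ev_append, show ev g [6, 4, 7] = y' * (zM : C) * y'⁻¹ by simp [ev, g, mul_assoc], ← hy', hlow _ (hrep _),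
        hz5, hsgk, hsg, ← Subgroup.coe_mul, mul_inv_cancel, Subgroup.coe_one]
    · subst hw
      rw [ev_append, show ev g [6, 6] = y' * y' by simp [ev, g], hyy', hlow _ (hrep _), hz5, hqk, ← Subgroup.coe_mul,
        pow_mod_four h4, hq', mul_inv_cancel, Subgroup.coe_one]

end CfsgLib.ONanRec.Cand
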